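import Mathlib
import Cfsg.Agent.Lib.PsuMin.WSize

/-! The isometries of determinant one of a Hermitian plane. -/

set_option autoImplicit false

namespace CfsgLib.PsuFour

open Matrix CfsgLib.UnitaryTransvection CfsgLib.PsuMin CfsgLib.HermCount Module

variable {F : Type*} [Field F] [Fintype F] {q : ℕ} (hF : Fintype.card F = q ^ 2)

local notation "σ" => frob hF
local notation "h₂" => Cfsg.hermForm 2 F q
local notation "G₂" => Cfsg.GU 2 F q

omit [Fintype F] in
/-- The determinant of two vectors. -/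
def D (x y : Fin 2 → F) : F := x 0 * y 1 - x 1 * y 0

omit [Fintype F] in
theorem D_mul (g : G₂) (x y : Fin 2 → F) : D (g.1.1 *ᵥ x) (g.1.1 *ᵥ y) = g.1.1.det * D x y := by
  simp [D, Matrix.det_fin_two, Matrix.mulVec, dotProduct, Fin.sum_univ_two]
  ring

omit [Fintype F] in
theorem D_lin (x y : Fin 2 → F) (k l : F) : D x (k • y + l • x) = k * D x y := by
  simp [D]; ring

omit [Fintype F] in
theorem D_smul (x y : Fin 2 → F) (k : F) : D (k • x) y = k * D x y := by simp [D]; ring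

/-- The orthogonal vector. -/
noncomputable def orth (a : Fin 2 → F) : Fin 2 → F := ![-σ (a 1), σ (a 0)]

theorem h2_eq (x y : Fin 2 → F) : h₂ x y = x 0 * σ (y 0) + x 1 * σ (y 1) := by
  simp [Cfsg.hermForm, Fin.sum_univ_two, frob_apply hF]

theorem orth_h (a : Fin 2 → F) : h₂ (orth hF a) (orth hF a) = h₂ a a ∧ h₂ a (orth hF a) = 0 ∧
    h₂ (orth hF a) a = 0 ∧ D a (orth hF a) = h₂ a a := by
  simp [h2_eq hF, orth, D, frob_frob hF]
  refine ⟨by ring, by ring, by ring⟩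

include hF in
theorem orth_dec {a : Fin 2 → F} {c : F} (hc : h₂ a a = c) (hc0 : c ≠ 0) (z : Fin 2 → F) :
    z = (h₂ z a / c) • a + (h₂ z (orth hF a) / c) • orth hF a := by
  refine funext (Fin.forall_fin_two.2 ⟨?_, ?_⟩) <;>
  · simp only [Pi.add_apply, Pi.smul_apply, smul_eq_mul, h2_eq hF, orth, Matrix.cons_val_zero, Matrix.cons_val_one,
      map_neg, frob_frob hF]
    rw [div_mul_eq_mul_div, div_mul_eq_mul_div, ← add_div, eq_div_iff hc0, ← hc, h2_eq hF]
    ring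

include hF in
/-- Nothing but the identity fixes an anisotropic vector. -/
theorem fix_aniso {g : G₂} (hg : g ∈ det1 F q 2) {a : Fin 2 → F} (ha : h₂ a a ≠ 0) (hga : g.1.1 *ᵥ a = a) :
    g = 1 := by
  obtain ⟨o1, o2, o3, o4⟩ := orth_h hF a
  have e1 : h₂ (g.1.1 *ᵥ orth hF a) a = 0 := by
    have := gu_h g (orth hF a) a
    rw [hga] at this
    exact this.trans o3
  have e2 := orth_dec hF rfl ha (g.1.1 *ᵥ orth hF a)
  rw [e1, zero_div, zero_smul, zero_add] at e2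
  have e3 : g.1.1 *ᵥ orth hF a = orth hF a := by
    have := D_mul g a (orth hF a)
    rw [hga, mem_det1.1 hg, one_mul, e2, show (h₂ (g.1.1 *ᵥ orth hF a) (orth hF a) / h₂ a a) • orth hF a =
      (h₂ (g.1.1 *ᵥ orth hF a) (orth hF a) / h₂ a a) • orth hF a + (0 : F) • a by rw [zero_smul, add_zero],
      D_lin, o4] at this
    conv_rhs => rw [← one_smul F (orth hF a)]
    rw [e2]
    congr 1
    exact mul_right_cancel₀ ha (this.trans (one_mul _).symm)
  refine gu_ext fun z => ?_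
  rw [PsuMin.one_apply]
  conv_lhs => rw [orth_dec hF rfl ha z, mulVec_add, mulVec_smul, mulVec_smul, hga, e3]
  exact (orth_dec hF rfl ha z).symm

include hF in
/-- Transitivity on an anisotropic level. -/
theorem trans_aniso {a b : Fin 2 → F} {c : F} (hc0 : c ≠ 0) (ha : h₂ a a = c) (hb : h₂ b b = c) :
    ∃ g ∈ det1 F q 2, g.1.1 *ᵥ a = b := by
  obtain ⟨o1, o2, o3, o4⟩ := orth_h hF a
  obtain ⟨p1, p2, p3, p4⟩ := orth_h hF b
  have hcs : σ c = c := by rw [← ha, h_swap hF]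
  let φ : (Fin 2 → F) →ₗ[F] (Fin 2 → F) :=
    { toFun := fun z => (h₂ z a / c) • b + (h₂ z (orth hF a) / c) • orth hF b
      map_add' := fun x y => by simp only [h_add_left, add_div, add_smul]; abel
      map_smul' := fun k x => by simp only [h_smul_left, mul_div_assoc, mul_smul, RingHom.id_apply, smul_add] }
  have hφ : ∀ x y, h₂ (φ x) (φ y) = h₂ x y := by
    intro x y
    conv_rhs => rw [orth_dec hF ha hc0 x, orth_dec hF ha hc0 y]
    simp only [φ, LinearMap.coe_mk, AddHom.coe_mk, h_add_left, h_add_right hF, h_smul_left, h_smul_right hF,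
      o1, o2, o3, p1, p2, p3, ha, hb, mul_zero]
  have hga : (ofLin hF φ hφ).1.1 *ᵥ a = b := by
    rw [ofLin_apply]
    simp only [φ, LinearMap.coe_mk, AddHom.coe_mk, o2, ha, zero_div, zero_smul, add_zero, div_self hc0, one_smul]
  have hgo : (ofLin hF φ hφ).1.1 *ᵥ orth hF a = orth hF b := by
    rw [ofLin_apply]
    simp only [φ, LinearMap.coe_mk, AddHom.coe_mk, o3, o1, ha, zero_div, zero_smul, zero_add, div_self hc0, one_smul]
  refine ⟨_, mem_det1.2 ?_, hga⟩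
  have := D_mul (ofLin hF φ hφ) a (orth hF a)
  rw [hga, hgo, o4, p4, ha, hb] at this
  exact mul_right_cancel₀ hc0 (this.symm.trans (one_mul c).symm)

/-- A pair of isotropic vectors with skew product. -/
structure IsoPair where
  a : Fin 2 → F
  b : Fin 2 → F
  c : F
  aa : Cfsg.hermForm 2 F q a a = 0
  bb : Cfsg.hermForm 2 F q b b = 0
  ab : Cfsg.hermForm 2 F q a b = c
  c0 : c ≠ 0
  cs : c ∈ skew hF

variable (V : IsoPair hF)

theorem IsoPair.ba : h₂ V.b V.a = -V.c := by rw [← h_swap hF, V.ab, skew_neg hF V.cs]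

theorem IsoPair.ane : V.a ≠ 0 := fun e => V.c0 (by rw [← V.ab, e, h_zero_left hF])

theorem IsoPair.D_ne : D V.a V.b ≠ 0 := by
  intro e
  obtain ⟨i, hi⟩ : ∃ i, V.a i ≠ 0 := Function.ne_iff.1 V.ane
  have hb : V.b = (V.b i / V.a i) • V.a := by
    funext j
    rw [Pi.smul_apply, smul_eq_mul, div_mul_eq_mul_div, eq_div_iff hi]
    have e' : V.a 0 * V.b 1 - V.a 1 * V.b 0 = 0 := e
    fin_cases i <;> fin_cases j <;> simp at *
    · linear_combination e'
    · linear_combination -e'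
  have := V.ab
  rw [hb, h_smul_right hF, V.aa, mul_zero] at this
  exact V.c0 this.symm

theorem IsoPair.dec (z : Fin 2 → F) : z = (h₂ z V.b / V.c) • V.a + (-(h₂ z V.a / V.c)) • V.b := by
  have hli : LinearIndependent F ![V.a, V.b] := by
    rw [LinearIndependent.pair_iff' V.ane]
    intro k e
    have := V.ab
    rw [← e, h_smul_right hF, V.aa, mul_zero] at this
    exact V.c0 this.symm
  have htop := hli.span_eq_top_of_card_eq_finrank (by simp)
  have hz : z ∈ Submodule.span F (Set.range ![V.a, V.b]) := htop ▸ Submodule.mem_top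
  rw [Matrix.range_cons_cons_empty, Submodule.mem_span_pair] at hz
  obtain ⟨k, l, rfl⟩ := hz
  have h0 := V.c0
  simp only [h_add_left, h_smul_left, V.aa, V.ab, V.bb, V.ba, mul_zero, zero_add, add_zero]
  congr 2 <;> field_simp

theorem IsoPair.perp {z : Fin 2 → F} (hz : h₂ z V.a = 0) : ∃ k : F, z = k • V.a := by
  refine ⟨h₂ z V.b / V.c, ?_⟩
  conv_lhs => rw [V.dec hF z, hz]
  simp

/-- The rational vectors of the pair. -/
def IsoPair.rat : AddSubgroup (Fin 2 → F) where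
  carrier := {z | ∃ x y : F, σ x = x ∧ σ y = y ∧ z = x • V.a + y • V.b}
  zero_mem' := ⟨0, 0, map_zero _, map_zero _, by simp⟩
  add_mem' := fun {_ _} ⟨x, y, hx, hy, e⟩ ⟨x', y', hx', hy', e'⟩ =>
    ⟨x + x', y + y', by rw [map_add, hx, hx'], by rw [map_add, hy, hy'], by rw [e, e']; module⟩
  neg_mem' := fun {_} ⟨x, y, hx, hy, e⟩ =>
    ⟨-x, -y, by rw [map_neg, hx], by rw [map_neg, hy], by rw [e]; module⟩

theorem IsoPair.h_rat {x y x' y' : F} (hx' : σ x' = x') (hy' : σ y' = y') :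
    h₂ (x • V.a + y • V.b) (x' • V.a + y' • V.b) = V.c * (x * y' - y * x') := by
  simp only [h_add_left, h_add_right hF, h_smul_left, h_smul_right hF, V.aa, V.ab, V.bb, V.ba, hx', hy']
  ring

theorem IsoPair.rat_iso {z : Fin 2 → F} (hz : z ∈ V.rat hF) : h₂ z z = 0 := by
  obtain ⟨x, y, hx, hy, rfl⟩ := hz
  rw [V.h_rat hF hx hy]; ring

theorem IsoPair.rat_skew {z w : Fin 2 → F} (hz : z ∈ V.rat hF) (hw : w ∈ V.rat hF) : h₂ z w ∈ skew hF := by
  obtain ⟨x, y, hx, hy, rfl⟩ := hz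
  obtain ⟨x', y', hx', hy', rfl⟩ := hw
  rw [V.h_rat hF hx' hy']
  exact skew_mul_fix hF V.cs (by rw [map_sub, map_mul, map_mul, hx, hy, hx', hy'])

theorem IsoPair.card_rat : Nat.card (V.rat hF) = q ^ 2 := by
  rw [pow_two]
  conv_rhs => rw [← card_fix hF, ← Nat.card_prod]
  refine (Nat.card_congr (Equiv.ofBijective
    (fun p : {x : F // σ x = x} × {x : F // σ x = x} => (⟨p.1.1 • V.a + p.2.1 • V.b, p.1.1, p.2.1, p.1.2, p.2.2, rfl⟩ :
      V.rat hF)) ⟨fun p r e => ?_, fun z => ?_⟩)).symm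
  · have e' : p.1.1 • V.a + p.2.1 • V.b = r.1.1 • V.a + r.2.1 • V.b := congrArg Subtype.val e
    have ea := congrArg (fun z => h₂ z V.b) e'
    have eb := congrArg (fun z => h₂ z V.a) e'
    simp only [h_add_left, h_smul_left, V.aa, V.ab, V.bb, V.ba, mul_zero, add_zero, zero_add] at ea eb
    exact Prod.ext (Subtype.ext (mul_right_cancel₀ V.c0 ea))
      (Subtype.ext (mul_right_cancel₀ (neg_ne_zero.2 V.c0) eb))
  · obtain ⟨x, y, hx, hy, e⟩ := z.2
    exact ⟨(⟨x, hx⟩, ⟨y, hy⟩), Subtype.ext e.symm⟩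

theorem IsoPair.a_mem : V.a ∈ V.rat hF := ⟨1, 0, map_one _, map_zero _, by simp⟩

theorem IsoPair.b_mem : V.b ∈ V.rat hF := ⟨0, 1, map_zero _, map_one _, by simp⟩

/-- Every rational vector has a rational partner. -/
theorem IsoPair.reselect {v : Fin 2 → F} (hv : v ∈ V.rat hF) (hv0 : v ≠ 0) :
    ∃ V' : IsoPair hF, V'.a = v ∧ V'.rat hF = V.rat hF := by
  obtain ⟨x, y, hx, hy, rfl⟩ := hv
  obtain ⟨x', y', hx', hy', hd⟩ : ∃ x' y' : F, σ x' = x' ∧ σ y' = y' ∧ x * y' - y * x' = 1 := by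
    by_cases h : x = 0
    · have hy0 : y ≠ 0 := fun e => hv0 (by rw [h, e]; simp)
      exact ⟨-y⁻¹, 0, by rw [map_neg, map_inv₀, hy], map_zero _, by field_simp; ring⟩
    · exact ⟨0, x⁻¹, map_zero _, by rw [map_inv₀, hx], by field_simp; ring⟩
  refine ⟨⟨x • V.a + y • V.b, x' • V.a + y' • V.b, V.c, by rw [V.h_rat hF hx hy]; ring,
    by rw [V.h_rat hF hx' hy']; ring, by rw [V.h_rat hF hx' hy', hd, mul_one], V.c0, V.cs⟩, rfl, ?_⟩
  ext z
  constructor
  · rintro ⟨u, w, hu, hw, rfl⟩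
    exact ⟨u * x + w * x', u * y + w * y', by simp [hu, hw, hx, hx'], by simp [hu, hw, hy, hy'], by module⟩
  · rintro ⟨u, w, hu, hw, rfl⟩
    refine ⟨u * y' - w * x', x * w - y * u, by simp [hu, hw, hx', hy'], by simp [hu, hw, hx, hy], ?_⟩
    show _ = (u * y' - w * x') • (x • V.a + y • V.b) + (x * w - y * u) • (x' • V.a + y' • V.b)
    match_scalars
    · linear_combination -u * hd
    · linear_combination -w * hd

/-- The root element at the first vector. -/
theorem IsoPair.root_apply' {c : F} (hc : c ∈ skew hF) (x y : F) :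
    (root hF V.a c).1.1 *ᵥ (x • V.a + y • V.b) = (x - c * (y * V.c)) • V.a + y • V.b := by
  rw [root_apply hF V.aa hc, h_add_left, h_smul_left, h_smul_left, V.aa, V.ba]
  module

theorem IsoPair.root_rat {c : F} (hc : c ∈ skew hF) {z : Fin 2 → F} (hz : z ∈ V.rat hF) :
    (root hF V.a c).1.1 *ᵥ z ∈ V.rat hF := by
  obtain ⟨x, y, hx, hy, rfl⟩ := hz
  refine ⟨_, y, ?_, hy, V.root_apply' hF hc x y⟩
  rw [map_sub, map_mul, map_mul, hx, hy, skew_neg hF hc, skew_neg hF V.cs]; ring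

/-- An element of determinant one fixing a vector is a root element. -/
theorem IsoPair.fix_root {g : G₂} (hg : g ∈ det1 F q 2) (hga : g.1.1 *ᵥ V.a = V.a) :
    ∃ c ∈ skew hF, g = root hF V.a c := by
  have h1 : h₂ (g.1.1 *ᵥ V.b) V.a = -V.c := by conv_lhs => rw [← hga, gu_h g, V.ba]
  have e := V.dec hF (g.1.1 *ᵥ V.b)
  have h0 := V.c0
  rw [h1, neg_div, neg_neg, div_self h0, one_smul] at e
  set k := h₂ (g.1.1 *ᵥ V.b) V.b / V.c
  have hk : σ k = k := by
    have := gu_h g V.b V.b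
    rw [e, h_add_left, h_add_right hF, h_add_right hF, h_smul_left, h_smul_left, h_smul_right hF, h_smul_right hF,
      V.aa, V.ab, V.bb, V.ba] at this
    exact mul_right_cancel₀ h0 (by linear_combination -this)
  have hc : -(k / V.c) ∈ skew hF := by
    rw [mem_skew, map_neg, map_div₀, hk, skew_neg hF V.cs, div_neg]; ring
  refine ⟨_, hc, gu_ext fun z => ?_⟩
  conv_lhs => rw [V.dec hF z, mulVec_add, mulVec_smul, mulVec_smul, hga, e]
  conv_rhs => rw [V.dec hF z, V.root_apply' hF hc]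
  match_scalars <;> field_simp <;> ring

/-- The multiplier of an eigenvector is fixed. -/
theorem IsoPair.eigen_fix {g : G₂} (hg : g ∈ det1 F q 2) {r : F} (hr : g.1.1 *ᵥ V.a = r • V.a) :
    σ r = r ∧ r ≠ 0 := by
  have hr0 : r ≠ 0 := fun e => mulVec_ne_zero g V.ane (by rw [hr, e, zero_smul])
  have hs : σ r ≠ 0 := fun e => hr0 (eq_zero_of_frob hF e)
  have h1 : h₂ (g.1.1 *ᵥ V.b) V.a * σ r = -V.c := by
    rw [mul_comm, ← h_smul_right hF, ← hr, gu_h g, V.ba]
  have hh : h₂ (g.1.1 *ᵥ V.b) V.a = -V.c / σ r := by rw [eq_div_iff hs, h1]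
  have e := D_mul g V.a V.b
  rw [hr, V.dec hF (g.1.1 *ᵥ V.b), hh, mem_det1.1 hg, one_mul, D_smul, add_comm, D_lin] at e
  have hD := V.D_ne
  have h0 := V.c0
  field_simp at e
  refine ⟨e.symm, hr0⟩

/-- The split torus. -/
theorem IsoPair.exists_torus {t : F} (ht : σ t = t) (ht0 : t ≠ 0) :
    ∃ g ∈ det1 F q 2, g.1.1 *ᵥ V.a = t • V.a ∧ g.1.1 *ᵥ V.b = t⁻¹ • V.b := by
  have h0 := V.c0
  set b' := (-(V.c)⁻¹) • V.b with hb'
  have hsc : σ (-(V.c)⁻¹) = (V.c)⁻¹ := by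
    rw [map_neg, map_inv₀, skew_neg hF V.cs, inv_neg, neg_neg]
  have hbb : h₂ b' b' = 0 := by rw [hb', h_smul_left, h_smul_right hF, V.bb]; simp
  have hab : h₂ V.a b' = 1 := by rw [hb', h_smul_right hF, hsc, V.ab, inv_mul_cancel₀ h0]
  have hba : h₂ b' V.a = 1 := by rw [← h_swap hF, hab, map_one]
  refine ⟨ofLin hF _ (hyp_isometry hF V.aa hbb hab ht0), mem_det1.2 ?_, ?_, ?_⟩
  · show (LinearMap.toMatrix' (hypScale hF V.a b' t)).det = 1
    rw [det_hypScale hF V.aa hbb hab, ht, mul_inv_cancel₀ ht0]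
  · rw [ofLin_apply, hypScale_apply, hab, V.aa]
    module
  · have hb0 : h₂ V.b b' = 0 := by rw [hb', h_smul_right hF, V.bb, mul_zero]
    rw [ofLin_apply, hypScale_apply, hb0, V.ba, ht, hb', smul_smul]
    match_scalars <;> field_simp <;> ring

include hF in
theorem exists_isoPair {e : Fin 2 → F} (he0 : e ≠ 0) (he : h₂ e e = 0) : ∃ V : IsoPair hF, V.a = e := by
  obtain ⟨c, hc0, hc⟩ := exists_skew hF
  obtain ⟨y, hy, hey, -⟩ := exists_iso_partner hF he0 he
  refine ⟨⟨e, σ c • y, c, he, ?_, ?_, hc0, hc⟩, rfl⟩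
  · rw [h_smul_left, h_smul_right hF, hy]; simp
  · rw [h_smul_right hF, hey, frob_frob hF, mul_one]

/-- The orbit of the first vector contains the rational vectors. -/
theorem IsoPair.trans_rat {z w : Fin 2 → F} (hz : z ∈ V.rat hF) (hw : w ∈ V.rat hF) (hz0 : z ≠ 0) (hw0 : w ≠ 0) :
    ∃ g ∈ det1 F q 2, g.1.1 *ᵥ z = w := by
  have step : ∀ z w, z ∈ V.rat hF → w ∈ V.rat hF → h₂ z w ≠ 0 → ∃ g ∈ det1 F q 2, g.1.1 *ᵥ z = w := by
    intro z w hz hw hne
    have hd : h₂ (w - z) (w - z) = 0 := V.rat_iso hF (sub_mem hw hz)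
    have hzd : h₂ z (w - z) = h₂ z w := by rw [h_sub_right hF, V.rat_iso hF hz, sub_zero]
    have hc : (h₂ z w)⁻¹ ∈ skew hF := by
      rw [mem_skew, map_inv₀, skew_neg hF (V.rat_skew hF hz hw), inv_neg, add_neg_cancel]
    refine ⟨root hF (w - z) (h₂ z w)⁻¹, root_mem hF hd hc, ?_⟩
    rw [root_apply hF hd hc, hzd, inv_mul_cancel₀ hne, one_smul, add_sub_cancel]
  by_cases hne : h₂ z w = 0
  swap
  · exact step z w hz hw hne
  obtain ⟨V', rfl, hV'⟩ := V.reselect hF hz hz0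
  obtain ⟨k, rfl⟩ := V'.perp hF (perp_symm hF hne)
  have hk : k ≠ 0 := fun e => hw0 (by rw [e, zero_smul])
  obtain ⟨g1, hg1, e1⟩ := step V'.a V'.b hz (hV' ▸ V'.b_mem hF) (by rw [V'.ab]; exact V'.c0)
  obtain ⟨g2, hg2, e2⟩ := step V'.b (k • V'.a) (hV' ▸ V'.b_mem hF) hw (by
    rw [h_smul_right hF, V'.ba]
    exact mul_ne_zero (fun e => hk (eq_zero_of_frob hF e)) (neg_ne_zero.2 V'.c0))
  exact ⟨g2 * g1, mul_mem hg2 hg1, by rw [PsuMin.mul_apply, e1, e2]⟩

/-- Sets invariant under a subgroup bound its index. -/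
theorem IsoPair.orbit_rat (K : Subgroup G₂) (hK : K ≤ det1 F q 2) {z : Fin 2 → F} (hz : z ∈ V.rat hF)
    (hz0 : z ≠ 0) (T : Set (Fin 2 → F)) (hT : ∀ g ∈ K, g.1.1 *ᵥ z ∈ T) :
    q ^ 2 - 1 ≤ K.relIndex (det1 F q 2) * T.ncard := by
  have h := OmegaMin.card_le_relIndex_mul (fun (g : G₂) x => g.1.1 *ᵥ x) (det1 F q 2) K hK z
    (fun g _ g' _ => PsuMin.mul_apply g g' z) ((V.rat hF : Set (Fin 2 → F)) \ {0}) T hT
    fun w hw => V.trans_rat hF hz hw.1 hz0 hw.2
  rwa [Set.ncard_sdiff_singleton_of_mem (V.rat hF).zero_mem, ← Nat.card_coe_set_eq,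
    show Nat.card ↥(V.rat hF : Set (Fin 2 → F)) = Nat.card (V.rat hF) from rfl, V.card_rat hF] at h

include hF in
/-- Sets invariant under a subgroup on an anisotropic level bound its index. -/
theorem orbit_aniso (K : Subgroup G₂) (hK : K ≤ det1 F q 2) {a : Fin 2 → F} {c : F} (hc0 : c ≠ 0)
    (ha : h₂ a a = c) (T : Set (Fin 2 → F)) (hT : ∀ g ∈ K, g.1.1 *ᵥ a ∈ T) :
    q * (q ^ 2 - 1) ≤ K.relIndex (det1 F q 2) * T.ncard := by
  have h := OmegaMin.card_le_relIndex_mul (fun (g : G₂) x => g.1.1 *ᵥ x) (det1 F q 2) K hK a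
    (fun g _ g' _ => PsuMin.mul_apply g g' a) {x | h₂ x x = c} T hT
    fun w hw => trans_aniso hF hc0 ha hw
  refine le_trans (le_of_eq ?_) h
  rw [card_level hF hc0 (by rw [← ha, h_swap hF])]
  have h2 := A1_eq hF 1
  have h1 : 1 ≤ q ^ 2 := Nat.one_le_pow _ _ (by have := two_le_q hF; omega)
  zify [h1]
  rw [show A1 F q 2 = A1 F q (1 + 1) from rfl, h2]
  ring

/-- The stabiliser of the line of the first vector. -/
def IsoPair.Bor : Subgroup G₂ where
  carrier := {g | g ∈ det1 F q 2 ∧ ∃ r : F, g.1.1 *ᵥ V.a = r • V.a}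
  one_mem' := ⟨one_mem _, 1, by rw [PsuMin.one_apply, one_smul]⟩
  mul_mem' := fun {a b} ⟨ha, r, hr⟩ ⟨hb, t, ht⟩ => ⟨mul_mem ha hb, t * r, by
    rw [PsuMin.mul_apply, ht, mulVec_smul, hr, smul_smul]⟩
  inv_mem' := fun {g} ⟨hg, r, hr⟩ => ⟨inv_mem hg, r⁻¹, by
    have hr0 : r ≠ 0 := fun e => mulVec_ne_zero g V.ane (by rw [hr, e, zero_smul])
    have := congrArg (fun z => g⁻¹.1.1 *ᵥ z) hr
    simp only [inv_apply_apply, mulVec_smul] at this
    conv_rhs => rw [this]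
    rw [inv_smul_smul₀ hr0]⟩

/-- The index of a subgroup of the line stabiliser. -/
theorem IsoPair.line_index (K : Subgroup G₂) (hK : K ≤ V.Bor hF) :
    (q + 1) * K.relIndex (V.Bor hF) ≤ K.relIndex (det1 F q 2) := by
  have hq := two_le_q hF
  have hB : V.Bor hF ≤ det1 F q 2 := fun g hg => hg.1
  rw [← Subgroup.relIndex_mul_relIndex K (V.Bor hF) (det1 F q 2) hK hB, mul_comm]
  refine Nat.mul_le_mul_left _ ?_
  set T : Set (Fin 2 → F) := {x | ∃ r : F, (σ r = r ∧ r ≠ 0) ∧ x = r • V.a}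
  have h := V.orbit_rat hF (V.Bor hF) hB (V.a_mem hF) V.ane T fun g hg => by
    obtain ⟨r, hr⟩ := hg.2
    exact ⟨r, V.eigen_fix hF hg.1 hr, hr⟩
  have hT : T.ncard ≤ q - 1 := by
    classical
    have hfix : ({x : F | σ x = x} \ {0}).ncard = q - 1 := by
      rw [Set.ncard_sdiff_singleton_of_mem (show (0 : F) ∈ {x : F | σ x = x} from map_zero _),
        ← Nat.card_coe_set_eq, show Nat.card {x : F | σ x = x} = Nat.card {x : F // σ x = x} from rfl, card_fix hF]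
    rw [← hfix]
    refine (le_of_eq ?_).trans (Set.ncard_image_le (f := fun r => r • V.a) (Set.toFinite _))
    congr 1
    ext x
    constructor
    · rintro ⟨r, hr, rfl⟩; exact ⟨r, hr, rfl⟩
    · rintro ⟨r, hr, rfl⟩; exact ⟨r, hr, rfl⟩
  have h1 : (q + 1) * (q - 1) ≤ (V.Bor hF).relIndex (det1 F q 2) * (q - 1) := by
    rw [← Nat.sq_sub_sq, one_pow]
    exact h.trans (Nat.mul_le_mul_left _ hT)
  exact Nat.le_of_mul_le_mul_right h1 (by omega)

end CfsgLib.PsuFour
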