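import Mathlib
import Cfsg.Agent.Lib.PsuMin.Free
import Cfsg.Agent.Lib.PsuFour.Plane

/-! The part of a subgroup at a free point in dimension four. -/

set_option autoImplicit false

namespace CfsgLib.PsuFour

open Matrix CfsgLib.UnitaryTransvection CfsgLib.PsuMin CfsgLib.HermCount Module

variable {F : Type*} [Field F] [Fintype F] {q : ℕ} (hF : Fintype.card F = q ^ 2)

local notation "σ" => frob hF
local notation "h₂" => Cfsg.hermForm 2 F q
local notation "G₂" => Cfsg.GU 2 F q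
local notation "G₄" => Cfsg.GU (2 + 2) F q

variable (P : HPair F q) (H : Subgroup (Cfsg.GU (2 + 2) F q))

/-- The index at the point. -/
noncomputable abbrev mP : ℕ := H.relIndex (Line (F := F) (q := q) 2 P)

/-- The index of the Levi image. -/
noncomputable abbrev kP : ℕ := (Kh hF P H).relIndex (det1 F q 2)

/-- Conjugation of a translation by a lift. -/
theorem conj_wh {g : G₂} {b : Fin 2 → F} {t : F} (ht : Ok hF b t)
    (hp : emb hF P 1 g * uel hF P b t ∈ H) {a : Fin 2 → F} {s : F} (hs : Ok hF a s)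
    (ha : uel hF P a s ∈ H) :
    Ok hF (g.1.1 *ᵥ a) ((h₂ b a - h₂ a b) + s) ∧
      uel hF P (g.1.1 *ᵥ a) ((h₂ b a - h₂ a b) + s) ∈ H := by
  have h1 := mul_mem (mul_mem hp ha) (inv_mem hp)
  have hc : h₂ b a - h₂ a b ∈ skew hF := by rw [← h_swap hF b a]; exact sub_frob_skew hF _
  have e1 : uel hF P b t * uel hF P a s * (uel hF P b t)⁻¹ =
      root hF (vp P) (h₂ b a - h₂ a b) * uel hF P a s := by
    rw [mul_inv_eq_iff_eq_mul, mul_assoc, uel_mul hF P hs ht, uel_mul hF P ht hs]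
    have o1 := ok_add hF ht hs
    have o2 : Ok hF (b + a) (s + t - h₂ b a) := by rw [add_comm b a]; exact ok_add hF hs ht
    rw [uel_shift hF P o2 o1, add_comm a b]
    congr 2
    ring
  have h0 : Ok hF (0 : Fin 2 → F) (h₂ b a - h₂ a b) := by unfold Ok; rw [h_zero_left hF, zero_add]; exact hc
  have o3 : Ok hF a ((h₂ b a - h₂ a b) + s) := by
    unfold Ok at hs ⊢; rw [map_add]; linear_combination hs + (mem_skew hF).1 hc
  rw [← uel_zero hF P hc, uel_mul hF P h0 hs, zero_add, h_zero_right hF, sub_zero] at e1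
  have e3 : emb hF P 1 g * uel hF P b t * uel hF P a s * (emb hF P 1 g * uel hF P b t)⁻¹ =
      emb hF P 1 g * (uel hF P b t * uel hF P a s * (uel hF P b t)⁻¹) * (emb hF P 1 g)⁻¹ := by group
  rw [e3, e1, emb_conj hF P o3] at h1
  simp only [Units.val_one, map_one, one_smul, one_mul] at h1
  exact ⟨by unfold Ok at o3 ⊢; rw [gu_h g]; exact o3, h1⟩

/-- Two translations with the same vector differ in a root element. -/
theorem uel_diff {a : Fin 2 → F} {s t : F} (hs : Ok hF a s) (ht : Ok hF a t) (h1 : uel hF P a s ∈ H)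
    (h2 : uel hF P a t ∈ H) : t - s ∈ Zh hF P H := by
  refine ⟨uel_eq hF hs ht, ?_⟩
  rw [uel_shift hF P hs ht] at h2
  simpa using mul_mem h2 (inv_mem h1)

theorem root_vp_mem {c : F} (hc : c ∈ skew hF) (h : root hF (vp (m := 2) P) c ∈ H) : c ∈ Zh hF P H := ⟨hc, h⟩

theorem rg_one {g : G₂} (hg : g ∈ Kh hF P H) : ((1 : Fˣ), g) ∈ Rg hF P H := hg

/-- The first inequality. -/
theorem free_ineq (hH : H ≤ det1 F q (2 + 2)) (hfree : Free hF P H) :
    kP hF P H * q ^ 5 ≤ mP P H * Nat.card (Wh hF P H) := by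
  have h := line_ineq hF P H (by norm_num : 1 ≤ 2) hH
  have hq := two_le_q hF
  obtain ⟨x, hx, hxZ⟩ := hfree
  have h1 : Nat.card (Sc hF P H) * Nat.card (Zh hF P H) ≤ q ^ 2 - 1 :=
    scalar_bound hF _ (zh_le hF P H) hx hxZ _ (by
      rintro l ⟨⟨l', g⟩, hp, rfl⟩ z hz
      exact act_zh hF P H hH hp hz)
  have h3 : 0 < q ^ 2 - 1 := by have : 2 ^ 2 ≤ q ^ 2 := Nat.pow_le_pow_left hq 2; omega
  refine Nat.le_of_mul_le_mul_right ?_ h3
  calc _ = (q ^ 2 - 1) * kP hF P H * (q ^ (2 * 2) * q) := by ring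
    _ ≤ _ := h
    _ ≤ mP P H * ((q ^ 2 - 1) * Nat.card (Wh hF P H)) :=
        Nat.mul_le_mul_left _ (Nat.mul_le_mul_right _ h1)
    _ = _ := by ring

/-- The inequality with a nontrivial root element at a free point. -/
theorem tr_ineq (hH : H ≤ det1 F q (2 + 2)) (hfree : Free hF P H) {c : F} (hc : c ∈ Zh hF P H) (hc0 : c ≠ 0) :
    kP hF P H * q ^ 4 * (q + 1) ≤ mP P H * Nat.card (Wh hF P H) := by
  have h := line_ineq hF P H (by norm_num : 1 ≤ 2) hH
  have hq := two_le_q hF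
  obtain ⟨x, hx, hxZ⟩ := hfree
  have hq2 : 4 ≤ q ^ 2 := le_trans (by norm_num) (Nat.pow_le_pow_left hq 2)
  have h1 : Nat.card (Sc hF P H) * Nat.card (Zh hF P H) ≤ q ^ 2 - 1 :=
    scalar_bound hF _ (zh_le hF P H) hx hxZ _ (by
      rintro l ⟨⟨l', g⟩, hp, rfl⟩ z hz
      exact act_zh hF P H hH hp hz)
  have h2 : Nat.card (Sc hF P H) * Nat.card (Zh hF P H) * (q + 1) ≤ (q ^ 2 - 1) * q := by
    obtain ⟨i, hi⟩ : Nat.card (Sc hF P H) * Nat.card (Zh hF P H) ∣ (q ^ 2 - 1) * q := by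
      refine mul_dvd_mul ?_ ?_
      · rw [← hF, ← Nat.card_eq_fintype_card, ← Nat.card_units]; exact Subgroup.card_subgroup_dvd_card _
      · conv_rhs => rw [← card_skew hF]
        exact AddSubgroup.card_dvd_of_le (zh_le hF P H)
    rw [hi]
    refine Nat.mul_le_mul_left _ ?_
    by_contra hlt
    have hle : i ≤ q := by omega
    have e : Nat.card (Sc hF P H) * Nat.card (Zh hF P H) = q ^ 2 - 1 := by
      refine le_antisymm h1 (Nat.le_of_mul_le_mul_right ?_ (show 0 < q by omega))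
      rw [hi]; exact Nat.mul_le_mul_left _ hle
    have hz : Nat.card (Zh hF P H) ∣ q ^ 2 - 1 := e ▸ dvd_mul_left _ _
    have hz' : Nat.card (Zh hF P H) ∣ q := by
      conv_rhs => rw [← card_skew hF]
      exact AddSubgroup.card_dvd_of_le (zh_le hF P H)
    have h4 : Nat.card (Zh hF P H) ∣ 1 := by
      have := Nat.dvd_sub (hz'.trans (dvd_pow_self q two_ne_zero)) hz
      rwa [show q ^ 2 - (q ^ 2 - 1) = 1 by omega] at this
    rw [Nat.dvd_one] at h4
    haveI := (Nat.card_eq_one_iff_unique.1 h4).1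
    exact hc0 (congrArg Subtype.val (Subsingleton.elim (⟨c, hc⟩ : Zh hF P H) ⟨0, zero_mem _⟩))
  refine Nat.le_of_mul_le_mul_right ?_ (show 0 < (q ^ 2 - 1) * q from Nat.mul_pos (by omega) (by omega))
  calc _ = (q ^ 2 - 1) * kP hF P H * (q ^ (2 * 2) * q) * (q + 1) := by ring
    _ ≤ mP P H * (Nat.card (Sc hF P H) * Nat.card (Zh hF P H) * Nat.card (Wh hF P H)) * (q + 1) :=
        Nat.mul_le_mul_right _ h
    _ = mP P H * Nat.card (Wh hF P H) * (Nat.card (Sc hF P H) * Nat.card (Zh hF P H) * (q + 1)) := by ring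
    _ ≤ _ := Nat.mul_le_mul_left _ h2

/-- The translations are few. -/
theorem card_wh_le (hfree : Free hF P H) : Nat.card (Wh hF P H) ≤ q ^ 2 := by
  obtain ⟨ψ, hψ, x0, hx0, hψ0⟩ := free_char hF P H hfree
  exact card_br hF hx0 hψ0 _ fun a ha b hb => hψ _ (bracket hF P H ha hb)

/-- Either half or all. -/
theorem card_wh_cases (hfree : Free hF P H) :
    2 * Nat.card (Wh hF P H) ≤ q ^ 2 ∨ Nat.card (Wh hF P H) = q ^ 2 := by
  rcases lt_or_eq_of_le (card_wh_le hF P H hfree) with h | h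
  · refine Or.inl (half_of_lt hF (N := 4) ?_ h)
    rw [← show Nat.card (Fin 2 → F) = q ^ (2 * 2) from card_space hF]
    exact AddSubgroup.card_addSubgroup_dvd_card _
  · exact Or.inr h

/-! ### Moving along the root group of the point -/

section moved

variable {b : Fin 2 → F} {r : F}

/-- Moving keeps the index. -/
theorem mP_moved (hr : Ok hF b r) :
    mP P (H.comap (MulAut.conj (uel hF P b r)).toMonoidHom) = mP P H := by
  set u := uel hF P b r with hu
  have hmem : u ∈ Line (F := F) (q := q) 2 P := uel_line hF P hr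
  rw [mP, mP, Subgroup.relIndex_comap]
  congr 1
  ext x
  simp only [Subgroup.mem_map, MulEquiv.coe_toMonoidHom, MulAut.conj_apply]
  constructor
  · rintro ⟨y, hy, rfl⟩; exact mul_mem (mul_mem hmem hy) (inv_mem hmem)
  · intro hx
    exact ⟨u⁻¹ * x * u, mul_mem (mul_mem (inv_mem hmem) hx) hmem, by group⟩

/-- Moving keeps the translations. -/
theorem wh_moved (hr : Ok hF b r) :
    Wh hF P (H.comap (MulAut.conj (uel hF P b r)).toMonoidHom) = Wh hF P H := by
  have key : ∀ {a : Fin 2 → F} {s : F}, Ok hF a s →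
      Ok hF a ((h₂ b a - h₂ a b) + s) ∧
      uel hF P b r * uel hF P a s * (uel hF P b r)⁻¹ = uel hF P a ((h₂ b a - h₂ a b) + s) := by
    intro a s hs
    have hc : h₂ b a - h₂ a b ∈ skew hF := by rw [← h_swap hF b a]; exact sub_frob_skew hF _
    have o3 : Ok hF a ((h₂ b a - h₂ a b) + s) := by
      unfold Ok at hs ⊢; rw [map_add]; linear_combination hs + (mem_skew hF).1 hc
    refine ⟨o3, ?_⟩
    rw [mul_inv_eq_iff_eq_mul, uel_mul hF P hr hs, uel_mul hF P o3 hr]
    have o1 : Ok hF (b + a) (r + s - h₂ a b) := ok_add hF hr hs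
    rw [add_comm a b]
    congr 1
    ring
  ext a
  constructor
  · rintro ⟨s, hs, h⟩
    obtain ⟨o, e⟩ := key hs
    exact ⟨_, o, e ▸ (mem_conj H _ _).1 h⟩
  · rintro ⟨s, hs, h⟩
    have hc : h₂ a b - h₂ b a ∈ skew hF := by rw [← h_swap hF a b]; exact sub_frob_skew hF _
    have hs' : Ok hF a ((h₂ a b - h₂ b a) + s) := by
      unfold Ok at hs ⊢; rw [map_add]; linear_combination hs + (mem_skew hF).1 hc
    obtain ⟨-, e⟩ := key hs'
    refine ⟨_, hs', (mem_conj H _ _).2 ?_⟩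
    rw [e]
    convert h using 2
    ring

/-- Moving keeps the Levi image. -/
theorem rg_moved (hH : H ≤ det1 F q (2 + 2)) (hr : Ok hF b r) :
    Rg hF P (H.comap (MulAut.conj (uel hF P b r)).toMonoidHom) = Rg hF P H := by
  have hmem : uel hF P b r ∈ Line (F := F) (q := q) 2 P := uel_line hF P hr
  set u : Line (F := F) (q := q) 2 P := ⟨_, hmem⟩
  have hu : rho hF P u = 1 := by
    have h1 := rho_val hF P (l := 1) (g := 1) hr (by rw [emb_one, one_mul]; exact hmem)
    simp only [emb_one, one_mul] at h1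
    exact h1
  ext p
  constructor
  · rintro ⟨g, hg, rfl⟩
    exact ⟨u * g * u⁻¹, (mem_conj H _ _).1 (Subgroup.mem_subgroupOf.1 hg), by
      rw [map_mul, map_mul, hu, map_inv, hu, inv_one, one_mul, mul_one]⟩
  · rintro ⟨g, hg, rfl⟩
    refine ⟨u⁻¹ * g * u, Subgroup.mem_subgroupOf.2 ((mem_conj H _ _).2 ?_), by
      rw [map_mul, map_mul, map_inv, hu, inv_one, one_mul, mul_one]⟩
    show (u : G₄) * ((u : G₄)⁻¹ * (g : G₄) * (u : G₄)) * (u : G₄)⁻¹ ∈ H
    simpa [mul_assoc] using Subgroup.mem_subgroupOf.1 hg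

theorem zh_moved (hr : Ok hF b r) :
    Zh hF P (H.comap (MulAut.conj (uel hF P b r)).toMonoidHom) = Zh hF P H := by
  have e : ∀ c ∈ skew hF, uel hF P b r * root hF (vp P) c * (uel hF P b r)⁻¹ = root hF (vp P) c := fun c hc => by
    rw [root_conj hF _ (vp_iso hF P) hc, uel_vp hF P hr]
  ext c
  exact ⟨fun h => ⟨h.1, e c h.1 ▸ (mem_conj H _ _).1 h.2⟩, fun h => ⟨h.1, (mem_conj H _ _).2 ((e c h.1).symm ▸ h.2)⟩⟩

end moved

include hF in
/-- A conjugate fixing the point with a centred lift. -/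
theorem exists_moved (hH : H ≤ det1 F q (2 + 2)) {e : G₂} (he : e ∈ Kh hF P H)
    (hfe : ∀ x : Fin 2 → F, e.1.1 *ᵥ x = x → x = 0) :
    ∃ b r, Ok hF b r ∧ ∃ τ ∈ skew hF,
      emb hF P 1 e * root hF (vp P) τ ∈ H.comap (MulAut.conj (uel hF P b r)).toMonoidHom := by
  obtain ⟨a, s, hs, hy⟩ := (mem_Kh hF P H hH).1 he
  obtain ⟨b, hb⟩ : ∃ b : Fin 2 → F, e⁻¹.1.1 *ᵥ b - b = a := by
    let φ : (Fin 2 → F) →ₗ[F] (Fin 2 → F) := e⁻¹.1.1.mulVecLin - LinearMap.id
    have hinj : Function.Injective φ := (injective_iff_map_eq_zero φ).2 fun x hx => hfe x (by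
      have e1 : e⁻¹.1.1 *ᵥ x = x := sub_eq_zero.1 hx
      conv_lhs => rw [← e1, apply_inv_apply])
    exact (LinearMap.injective_iff_surjective.1 hinj) a
  obtain ⟨r, hr⟩ := WittExtension.exists_trace (frob_ne_id hF) (frob_frob hF)
    (c := -(h₂ b b)) (by rw [map_neg, h_swap hF])
  have hrb : Ok hF b r := by unfold Ok; linear_combination hr
  refine ⟨b, r, hrb, ?_⟩
  set u := uel hF P b r
  set H' := H.comap (MulAut.conj u).toMonoidHom
  have hconj : u * (u⁻¹ * (emb hF P 1 e * uel hF P a s) * u) * u⁻¹ ∈ H := by simpa [mul_assoc] using hy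
  have h' : u⁻¹ * (emb hF P 1 e * uel hF P a s) * u ∈ H' := (mem_conj H u _).2 hconj
  have o1 := ok_neg hF hrb
  have o2 : Ok hF (e⁻¹.1.1 *ᵥ (-b)) (σ r) := by
    have := o1
    unfold Ok at this ⊢
    rw [gu_h e⁻¹]
    exact this
  have k1 : u⁻¹ * emb hF P 1 e = emb hF P 1 e * uel hF P (e⁻¹.1.1 *ᵥ (-b)) (σ r) := by
    have := emb_conj hF P o1 (1 : Fˣ) e⁻¹
    simp only [Units.val_one, map_one, one_smul, one_mul] at this
    rw [← this, emb_inv, inv_one, inv_inv, ← mul_assoc, ← mul_assoc, emb_mul, mul_one, mul_inv_cancel, emb_one,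
      one_mul, uel_inv hF P hrb]
  rw [← mul_assoc, k1, mul_assoc, mul_assoc, uel_mul hF P hs hrb, uel_mul hF P o2 (ok_add hF hs hrb)] at h'
  have o3 := ok_add hF o2 (ok_add hF hs hrb)
  have e0 : e⁻¹.1.1 *ᵥ (-b) + (a + b) = 0 := by rw [mulVec_neg, ← hb]; abel
  rw [e0] at h'
  rw [e0] at o3
  have ht : σ r + (s + r - h₂ b a) - h₂ (a + b) (e⁻¹.1.1 *ᵥ (-b)) ∈ skew hF := by
    unfold Ok at o3
    rwa [h_zero_left hF, zero_add] at o3
  exact ⟨_, ht, by rwa [uel_zero hF P ht] at h'⟩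

end CfsgLib.PsuFour
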