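import Mathlib
import Cfsg.Agent.Lib.PsuFour.Local

/-! The translations of a subgroup at a free point. -/

set_option autoImplicit false

namespace CfsgLib.PsuFour

open Matrix CfsgLib.UnitaryTransvection CfsgLib.PsuMin CfsgLib.HermCount Module

variable {F : Type*} [Field F] [Fintype F] {q : ℕ} (hF : Fintype.card F = q ^ 2)

local notation "σ" => frob hF
local notation "h₂" => Cfsg.hermForm 2 F q
local notation "G₂" => Cfsg.GU 2 F q

/-- The bound to be proved. -/
abbrev tgt (q : ℕ) : ℕ := (q + 1) * (q ^ 3 + 1)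

theorem tgt_le_pow {q m : ℕ} (hq : 3 ≤ q) (h : q ^ 3 * (q ^ 2 - 1) ≤ m) : tgt q ≤ m := by
  have h1 : q + 2 ≤ q ^ 2 - 1 := by
    have : q * 3 ≤ q ^ 2 := by rw [pow_two]; exact Nat.mul_le_mul_left _ hq
    omega
  have h2 : q + 1 ≤ q ^ 3 := by
    have : q * 1 * 3 ≤ q ^ 3 := by
      rw [pow_three', mul_one]; exact Nat.mul_le_mul (Nat.le_mul_self q) hq
    omega
  calc tgt q = (q + 1) * q ^ 3 + (q + 1) := by rw [tgt]; ring
    _ ≤ (q + 1) * q ^ 3 + q ^ 3 := by omega
    _ = q ^ 3 * (q + 2) := by ring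
    _ ≤ q ^ 3 * (q ^ 2 - 1) := Nat.mul_le_mul_left _ h1
    _ ≤ m := h

theorem cancel_sq {q a b : ℕ} (h : a * q ^ 2 ≤ b * q ^ 2) (hq : 0 < q) : a ≤ b :=
  Nat.le_of_mul_le_mul_right h (Nat.pow_pos hq)

theorem tgt_le_cube {q k m : ℕ} (hq : 2 ≤ q) (hk : q + 2 ≤ k) (h : k * q ^ 3 ≤ m) : tgt q ≤ m := by
  have h2 : q + 1 ≤ q ^ 3 := by
    have : 2 * 2 * q ≤ q ^ 3 := by rw [pow_three']; exact Nat.mul_le_mul_right _ (Nat.mul_le_mul hq hq)
    omega
  calc tgt q = (q + 1) * q ^ 3 + (q + 1) := by rw [tgt]; ring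
    _ ≤ (q + 1) * q ^ 3 + q ^ 3 := by omega
    _ = (q + 2) * q ^ 3 := by ring
    _ ≤ _ := (Nat.mul_le_mul_right _ hk).trans h

include hF in
theorem h_add_self (x y : Fin 2 → F) : h₂ (x + y) (x + y) = h₂ x x + (h₂ x y + σ (h₂ x y)) + h₂ y y := by
  rw [h_add_left, h_add_right hF, h_add_right hF, h_swap hF x y]; ring

include hF in
theorem parallelogram (x y : Fin 2 → F) :
    h₂ (x + y) (x + y) + h₂ (x - y) (x - y) = 2 * (h₂ x x + h₂ y y) := by
  simp only [h_add_left, h_add_right hF, h_sub_left, h_sub_right hF]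
  ring

theorem two_fix : σ (2 : F) = 2 := map_ofNat _ 2

variable (W : AddSubgroup (Fin 2 → F)) {c : F}

include hF in
/-- A large additive group cannot have one nonzero norm. -/
theorem not_all (hc : c ≠ 0) (hcard : 5 ≤ Nat.card W) (hall : ∀ y ∈ W, y ≠ 0 → h₂ y y = c) : False := by
  classical
  have pick : ∀ T : Finset (Fin 2 → F), T.card ≤ 4 → ∃ y ∈ W, y ∉ T := by
    intro T hT
    by_contra hno
    push Not at hno
    have : (W : Set (Fin 2 → F)).ncard ≤ (T : Set (Fin 2 → F)).ncard := Set.ncard_le_ncard hno (Set.toFinite _)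
    rw [Set.ncard_coe_finset, ← Nat.card_coe_set_eq] at this
    have e : Nat.card ↥(W : Set (Fin 2 → F)) = Nat.card W := rfl
    omega
  obtain ⟨a, ha, ha0⟩ := pick {0} (by simp)
  simp only [Finset.mem_singleton] at ha0
  by_cases h2 : (2 : F) = 0
  · obtain ⟨b, hb, hb'⟩ := pick {0, a, -a} (le_trans Finset.card_le_three (by norm_num))
    simp only [Finset.mem_insert, Finset.mem_singleton, not_or] at hb'
    obtain ⟨d, hd, hd'⟩ := pick {0, a, -b, a - b} (by
      refine le_trans Finset.card_le_four ?_; norm_num)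
    simp only [Finset.mem_insert, Finset.mem_singleton, not_or] at hd'
    have key : ∀ y ∈ W, y ≠ 0 → y ≠ a → h₂ a y + σ (h₂ a y) = c := by
      intro y hy hy0 hya
      have hne : a + y ≠ 0 := fun e => hya (by
        have : y = -a := eq_neg_of_add_eq_zero_right e
        rw [this]
        funext i
        rw [Pi.neg_apply]
        linear_combination -(a i) * h2)
      have := h_add_self hF a y
      rw [hall _ (W.add_mem ha hy) hne, hall a ha ha0, hall y hy hy0] at this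
      linear_combination -this - c * h2
    have e1 := key b hb hb'.1 hb'.2.1
    have e2 := key d hd hd'.1 hd'.2.1
    have e3 := key (b + d) (W.add_mem hb hd) (fun e => hd'.2.2.1 (eq_neg_of_add_eq_zero_right e))
      (fun e => hd'.2.2.2 (by rw [← e]; abel))
    rw [h_add_right hF, map_add] at e3
    exact hc (by linear_combination e3 - e1 - e2)
  · obtain ⟨b, hb, hb'⟩ := pick {0, a, -a} (le_trans Finset.card_le_three (by norm_num))
    simp only [Finset.mem_insert, Finset.mem_singleton, not_or] at hb'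
    have e := parallelogram hF a b
    rw [hall a ha ha0, hall b hb hb'.1,
      hall _ (W.add_mem ha hb) (fun e => hb'.2.2 (eq_neg_of_add_eq_zero_right e)),
      hall _ (W.sub_mem ha hb) (fun e => hb'.2.1 (sub_eq_zero.1 e).symm)] at e
    exact mul_ne_zero h2 hc (by linear_combination -e)

set_option maxHeartbeats 400000 in
include hF in
/-- A symmetric additive group has few vectors of one norm. -/
theorem level_sym (hq : 3 ≤ q) (hcard : Nat.card W = q ^ 2) (hc : c ≠ 0)
    (hsym : ∀ x ∈ W, ∀ y ∈ W, h₂ x y = h₂ y x) {a : Fin 2 → F} (ha : a ∈ W) (hac : h₂ a a = c) :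
    ({y : Fin 2 → F | y ∈ W ∧ h₂ y y = c}).ncard < q * (q - 1) := by
  classical
  set L : Set (Fin 2 → F) := {y | y ∈ W ∧ h₂ y y = c}
  have hsig : ∀ x ∈ W, ∀ y ∈ W, σ (h₂ x y) = h₂ x y := fun x hx y hy => by rw [h_swap hF, hsym y hy x hx]
  by_cases h2 : (2 : F) = 0
  · by_contra hge
    rw [not_lt] at hge
    set L' : Set (Fin 2 → F) := (fun y => y + a) '' L
    have hLW : L ∪ L' ⊆ (W : Set (Fin 2 → F)) := by
      rintro _ (h | ⟨y, hy, rfl⟩)
      exacts [h.1, W.add_mem hy.1 ha]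
    have hu := Set.ncard_le_ncard hLW (Set.toFinite _)
    rw [← Nat.card_coe_set_eq (W : Set (Fin 2 → F)), show Nat.card ↥(W : Set (Fin 2 → F)) = q ^ 2 from hcard] at hu
    have hi := Set.ncard_union_add_ncard_inter L L' (Set.toFinite _) (Set.toFinite _)
    have hL' : L'.ncard = L.ncard := Set.ncard_image_of_injective _ (add_left_injective a)
    have hq2 : q * (q - 1) + q = q ^ 2 := by
      rw [Nat.mul_sub_one, Nat.sub_add_cancel (Nat.le_mul_self q), pow_two]
    have hq3 : q * 3 ≤ q ^ 2 := by rw [pow_two]; exact Nat.mul_le_mul_left _ hq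
    obtain ⟨_, ⟨hy1, hy2⟩, y, ⟨hy3, hy4⟩, rfl⟩ : (L ∩ L').Nonempty := Set.nonempty_of_ncard_ne_zero (by omega)
    rw [h_add_self hF, hy4, hac, hsig y hy3 a ha] at hy2
    exact hc (by linear_combination hy2 - (h₂ y a) * h2)
  obtain ⟨o1, o2, o3, -⟩ := orth_h hF a
  set o := orth hF a
  rw [hac] at o1
  have hcs : σ c = c := by rw [← hac, h_swap hF]
  let X : (Fin 2 → F) → F := fun y => h₂ y a / c
  let Λ : (Fin 2 → F) → F := fun y => h₂ y o / c
  have hdec : ∀ y, y = X y • a + Λ y • o := orth_dec hF hac hc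
  have hX : ∀ y ∈ W, σ (X y) = X y := fun y hy => by simp only [X, map_div₀, hsig y hy a ha, hcs]
  have hh : ∀ y ∈ W, ∀ z, h₂ y z = c * (X y * σ (X z) + Λ y * σ (Λ z)) := by
    intro y _ z
    conv_lhs => rw [hdec y, hdec z]
    simp only [h_add_left, h_add_right hF, h_smul_left, h_smul_right hF, hac, o1, o2, o3]
    ring
  obtain ⟨b0, hb0, hL0⟩ : ∃ b ∈ W, Λ b ≠ 0 := by
    by_contra hno
    push Not at hno
    have hle : Nat.card W ≤ q := by
      rw [← card_fix hF]
      exact Nat.card_le_card_of_injective (fun y : W => (⟨X y.1, hX _ y.2⟩ : {x : F // σ x = x}))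
        fun y z e => Subtype.ext (by rw [hdec y.1, hdec z.1, hno _ y.2, hno _ z.2, show X y.1 = X z.1 from congrArg Subtype.val e])
    rw [hcard, pow_two] at hle
    have := Nat.mul_le_mul_left q hq
    omega
  set ν := Λ b0 * σ (Λ b0)
  have hν : ν ≠ 0 := mul_ne_zero hL0 fun e => hL0 (eq_zero_of_frob hF e)
  let M : (Fin 2 → F) → F := fun y => Λ y / Λ b0
  have hM : ∀ y ∈ W, σ (M y) = M y := by
    intro y hy
    have e := hsym y hy b0 hb0
    rw [hh y hy, hh b0 hb0, hX y hy, hX b0 hb0] at e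
    have e' : Λ y * σ (Λ b0) = Λ b0 * σ (Λ y) := mul_left_cancel₀ hc (by linear_combination e)
    simp only [M, map_div₀]
    rw [div_eq_div_iff (fun e => hL0 (eq_zero_of_frob hF e)) hL0]
    linear_combination -e'
  have hinj : ∀ y z, X y = X z → M y = M z → y = z := fun y z e1 e2 => by
    rw [hdec y, hdec z, e1, show Λ y = Λ z from (div_left_inj' hL0).1 e2]
  have hlev : ∀ y ∈ L, X y * X y + M y * M y * ν = 1 := by
    rintro y ⟨hy, hyc⟩
    have e := hh y hy y
    rw [hyc, hX y hy] at e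
    have hΛ : Λ y = M y * Λ b0 := (div_mul_cancel₀ _ hL0).symm
    rw [hΛ, map_mul, hM y hy] at e
    exact mul_left_cancel₀ hc (by linear_combination -e)
  rw [← Nat.card_coe_set_eq]
  rcases Nat.lt_or_ge q 4 with h4 | h4
  · have q3 : q = 3 := by omega
    have sq : ∀ x : F, σ x = x → x ≠ 0 → x * x = 1 := fun x hx hx0 => by
      rw [frob_apply hF, q3, pow_three'] at hx
      exact mul_right_cancel₀ hx0 (hx.trans (one_mul x).symm)
    let S := {x : F // σ x = x ∧ x ≠ 0}
    have hS : Nat.card S ≤ 2 := by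
      have hsub : Nat.card ({x : F | σ x = x} \ {0} : Set F) = 2 := by
        rw [Nat.card_coe_set_eq, Set.ncard_sdiff_singleton_of_mem (show (0 : F) ∈ {x : F | σ x = x} from map_zero _),
          ← Nat.card_coe_set_eq, show Nat.card {x : F | σ x = x} = Nat.card {x : F // σ x = x} from rfl, card_fix hF, q3]
      exact hsub.le
    have key : ∀ y ∈ L, M y ≠ 0 → X y = 0 := by
      intro y hy hm
      by_contra hx
      have e := hlev y hy
      rw [sq _ (hX y hy.1) hx, sq _ (hM y hy.1) hm] at e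
      exact hν (by linear_combination e)
    have hx0 : ∀ y ∈ L, M y = 0 → X y ≠ 0 := fun y hy hm hx => by
      have e := hlev y hy
      rw [hm, hx] at e
      simp at e
    let φ : L → S ⊕ S := fun y => if hm : M y.1 = 0 then Sum.inl ⟨X y.1, hX _ y.2.1, hx0 _ y.2 hm⟩
      else Sum.inr ⟨M y.1, hM _ y.2.1, hm⟩
    have hφ : Function.Injective φ := by
      intro y z e
      simp only [φ] at e
      by_cases h1 : M y.1 = 0 <;> by_cases h3 : M z.1 = 0 <;>
        simp only [h1, h3, dite_true, dite_false, reduceCtorEq, Sum.inl.injEq, Sum.inr.injEq] at e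
      · exact Subtype.ext (hinj _ _ (congrArg Subtype.val e) (h1.trans h3.symm))
      · exact Subtype.ext (hinj _ _ ((key _ y.2 h1).trans (key _ z.2 h3).symm) (congrArg Subtype.val e))
    have := Nat.card_le_card_of_injective φ hφ
    rw [Nat.card_sum] at this
    rw [q3]
    omega
  · let T := {x : F // σ x = x}
    choose rt hrt using fun μ : T => (em (∃ x : F, x * x + μ.1 * μ.1 * ν = 1)).elim
      (fun ⟨x, hx⟩ => (⟨x, fun _ => hx⟩ : ∃ x : F, (∃ x : F, x * x + μ.1 * μ.1 * ν = 1) → x * x + μ.1 * μ.1 * ν = 1))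
      (fun hn => ⟨0, fun h => absurd h hn⟩)
    let φ : L → T × Bool := fun y => (⟨M y.1, hM _ y.2.1⟩, decide (X y.1 = rt ⟨M y.1, hM _ y.2.1⟩))
    have hφ : Function.Injective φ := by
      intro y z e
      simp only [φ, Prod.mk.injEq, Subtype.mk.injEq, decide_eq_decide] at e
      obtain ⟨e0, e2⟩ := e
      have e1 : M y.1 = M z.1 := congrArg Subtype.val e0
      refine Subtype.ext (hinj _ _ ?_ e1)
      have hrz : rt ⟨M y.1, hM _ y.2.1⟩ = rt ⟨M z.1, hM _ z.2.1⟩ := congrArg rt e0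
      rw [hrz] at e2
      have ey := hlev _ y.2
      have ez := hlev _ z.2
      have er := hrt ⟨M z.1, hM _ z.2.1⟩ ⟨_, ez⟩
      set r := rt ⟨M z.1, hM _ z.2.1⟩
      rw [e1] at ey
      by_cases hz : X z.1 = r
      · rw [hz]; exact e2.2 hz
      · have hy : X y.1 ≠ r := fun h => hz (e2.1 h)
        have h5 : X y.1 = -r := (mul_self_eq_mul_self_iff.1 (show X y.1 * X y.1 = r * r by
          linear_combination ey - er)).resolve_left hy
        have h6 : X z.1 = -r := (mul_self_eq_mul_self_iff.1 (show X z.1 * X z.1 = r * r by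
          linear_combination ez - er)).resolve_left hz
        rw [h5, h6]
    have := Nat.card_le_card_of_injective φ hφ
    rw [Nat.card_prod, show Nat.card T = q from card_fix hF, Nat.card_eq_fintype_card (α := Bool), Fintype.card_bool] at this
    have := Nat.mul_lt_mul_of_pos_left (show 2 < q - 1 by omega) (show 0 < q by omega)
    omega

variable (P : HPair F q) (H : Subgroup (Cfsg.GU (2 + 2) F q))

/-- The translations form a line and the Levi image holds its stabiliser. -/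
def TypeL : Prop :=
  ∃ V : IsoPair hF, (∀ w, w ∈ Wh hF P H ↔ ∃ k : F, w = k • V.a) ∧ V.Bor hF ≤ Kh hF P H ∧
    (q + 1) * q ^ 3 ≤ mP P H

/-- The translations form a symplectic plane over the fixed field. -/
def TypeN : Prop :=
  ∃ V : IsoPair hF, (2 : F) = 0 ∧ Wh hF P H = V.rat hF ∧ kP hF P H ≤ q + 1 ∧ q ^ 3 ≤ mP P H

theorem kh_pos : 1 ≤ kP hF P H := OmegaMin.relIndex_pos _ _

/-- A vector of nonzero norm among the translations. -/
theorem case_aniso (hq : 3 ≤ q) (hH : H ≤ det1 F q (2 + 2)) (hfree : Free hF P H) {a : Fin 2 → F}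
    (ha : a ∈ Wh hF P H) (hac : h₂ a a ≠ 0) : tgt q ≤ mP P H := by
  classical
  set c := h₂ a a with hc
  set W := Wh hF P H
  set k := kP hF P H
  set L : Set (Fin 2 → F) := {y | y ∈ W ∧ h₂ y y = c}
  have hk : q * (q ^ 2 - 1) ≤ k * L.ncard :=
    orbit_aniso hF (Kh hF P H) (kh_det hF P H hH) hac rfl L
      fun g hg => ⟨kh_inv hF P H hH hg ha, (gu_h g a a)⟩
  have hmain := free_ineq hF P H hH hfree
  have hLW : L.ncard ≤ Nat.card W - 1 := by
    rw [show Nat.card W = (W : Set (Fin 2 → F)).ncard from Nat.card_coe_set_eq _,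
      ← Set.ncard_sdiff_singleton_of_mem W.zero_mem]
    refine Set.ncard_le_ncard (fun y hy => ⟨hy.1, fun e => hac ?_⟩) (Set.toFinite _)
    rw [← hy.2, show y = 0 from e, h_zero_left hF]
  have hq4 : 9 ≤ q ^ 2 := le_trans (by norm_num) (Nat.pow_le_pow_left hq 2)
  rcases card_wh_cases hF P H hfree with hW | hW
  · have h1 : 4 * (q ^ 2 * (q ^ 2 - 1)) ≤ mP P H := by
      refine Nat.le_of_mul_le_mul_right ?_ (show 0 < q ^ 4 from Nat.pow_pos (by omega))
      calc 4 * (q ^ 2 * (q ^ 2 - 1)) * q ^ 4 = 4 * (q ^ 5 * (q * (q ^ 2 - 1))) := by ring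
        _ ≤ 4 * (q ^ 5 * (k * Nat.card W)) :=
            Nat.mul_le_mul_left _ (Nat.mul_le_mul_left _ (hk.trans (Nat.mul_le_mul_left _ (hLW.trans (Nat.sub_le _ _)))))
        _ = 4 * Nat.card W * (k * q ^ 5) := by ring
        _ ≤ 4 * Nat.card W * (mP P H * Nat.card W) := Nat.mul_le_mul_left _ hmain
        _ = mP P H * ((2 * Nat.card W) * (2 * Nat.card W)) := by ring
        _ ≤ mP P H * (q ^ 2 * q ^ 2) := Nat.mul_le_mul_left _ (Nat.mul_le_mul hW hW)
        _ = _ := by ring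
    refine le_trans ?_ h1
    have h2 : 2 * q ^ 2 ≤ 4 * (q ^ 2 - 1) := by omega
    calc tgt q = q ^ 4 + q ^ 3 + q + 1 := by rw [tgt]; ring
      _ ≤ 2 * q ^ 4 := by
          have : 3 * q ^ 3 ≤ q ^ 4 := by rw [show q ^ 4 = q * q ^ 3 by ring]; exact Nat.mul_le_mul_right _ hq
          have : q + 1 ≤ q ^ 3 := by
            have : q * 3 ≤ q ^ 3 := by
              rw [pow_three']; exact Nat.mul_le_mul (Nat.le_mul_self q) hq
            omega
          omega
      _ = q ^ 2 * (2 * q ^ 2) := by ring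
      _ ≤ q ^ 2 * (4 * (q ^ 2 - 1)) := Nat.mul_le_mul_left _ h2
      _ = _ := by ring
  rw [hW] at hmain hLW
  have hm : k * q ^ 3 ≤ mP P H := cancel_sq (q := q)
    (le_trans (le_of_eq (show k * q ^ 3 * q ^ 2 = k * q ^ 5 by ring)) hmain) (by omega)
  by_cases hk2 : q + 2 ≤ k
  · exact tgt_le_cube (by omega) hk2 hm
  by_cases hkq : k ≤ q
  · exfalso
    have h1 : q ^ 2 - 1 ≤ L.ncard :=
      Nat.le_of_mul_le_mul_left (hk.trans (Nat.mul_le_mul_right _ hkq)) (by omega)
    refine not_all hF W hac (by rw [hW]; omega) fun y hy hy0 => ?_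
    have he : L = (W : Set (Fin 2 → F)) \ {0} := Set.eq_of_subset_of_ncard_le
      (fun z hz => ⟨hz.1, fun e => hac (by rw [← hz.2, show z = 0 from e, h_zero_left hF])⟩)
      (by rw [Set.ncard_sdiff_singleton_of_mem W.zero_mem, ← show Nat.card W = (W : Set (Fin 2 → F)).ncard from
        Nat.card_coe_set_eq _, hW]; exact h1) (Set.toFinite _)
    exact (he.ge ⟨hy, hy0⟩).2
  obtain hkeq : k = q + 1 := by omega
  by_cases hbr : ∀ x ∈ W, ∀ y ∈ W, h₂ x y = h₂ y x
  · exfalso
    have h1 := level_sym hF W hq hW hac hbr ha rfl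
    rw [hkeq] at hk
    have e : q * (q ^ 2 - 1) = (q + 1) * (q * (q - 1)) := by
      rw [show q ^ 2 - 1 = (q + 1) * (q - 1) by rw [← Nat.sq_sub_sq, one_pow]]; ring
    rw [e] at hk
    have := Nat.le_of_mul_le_mul_left hk (by omega)
    exact absurd h1 (not_lt.2 this)
  push Not at hbr
  obtain ⟨x, hx, y, hy, hxy⟩ := hbr
  have h := tr_ineq hF P H hH hfree (bracket hF P H hx hy) (sub_ne_zero.2 hxy)
  rw [hW] at h
  change k * q ^ 4 * (q + 1) ≤ _ at h
  rw [hkeq] at h
  refine le_trans ?_ (cancel_sq (q := q)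
    (le_trans (le_of_eq (show (q + 1) * (q + 1) * q ^ 2 * q ^ 2 = (q + 1) * q ^ 4 * (q + 1) by ring)) h)
    (by omega))
  have : q ^ 3 + 1 ≤ (q + 1) * q ^ 2 := by
    rw [add_mul, one_mul, show q * q ^ 2 = q ^ 3 by ring]
    omega
  calc tgt q ≤ (q + 1) * ((q + 1) * q ^ 2) := Nat.mul_le_mul_left _ this
    _ = _ := by ring

set_option maxHeartbeats 400000 in
/-- The cases at a free point. -/
theorem cases_at (hq : 3 ≤ q) (hH : H ≤ det1 F q (2 + 2)) (hfree : Free hF P H) :
    tgt q ≤ mP P H ∨ TypeL hF P H ∨ TypeN hF P H := by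
  classical
  by_cases hiso : ∀ a ∈ Wh hF P H, h₂ a a = 0
  swap
  · push Not at hiso
    obtain ⟨a, ha, hac⟩ := hiso
    exact Or.inl (case_aniso hF P H hq hH hfree ha hac)
  set W := Wh hF P H
  set k := kP hF P H
  have hk1 : 1 ≤ k := kh_pos hF P H
  have hmain := free_ineq hF P H hH hfree
  by_cases hW0 : ∀ a ∈ W, a = 0
  · left
    haveI : Subsingleton W := ⟨fun a b => Subtype.ext ((hW0 _ a.2).trans (hW0 _ b.2).symm)⟩
    rw [Nat.card_of_subsingleton (0 : W), mul_one] at hmain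
    refine tgt_le_pow hq (le_trans ?_ ((Nat.le_mul_of_pos_left _ hk1).trans hmain))
    calc q ^ 3 * (q ^ 2 - 1) ≤ q ^ 3 * q ^ 2 := Nat.mul_le_mul_left _ (Nat.sub_le _ _)
      _ = q ^ 5 := by ring
  push Not at hW0
  obtain ⟨a, ha, ha0⟩ := hW0
  obtain ⟨V0, rfl⟩ := exists_isoPair hF ha0 (hiso a ha)
  by_cases hline : ∀ w ∈ W, ∃ l : F, w = l • V0.a
  · have hK : Kh hF P H ≤ V0.Bor hF := fun g hg => by
      obtain ⟨l, hl⟩ := hline _ (kh_inv hF P H hH hg ha)
      exact ⟨kh_det hF P H hH hg, l, hl⟩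
    have hki := V0.line_index hF (Kh hF P H) hK
    have hr1 : 1 ≤ (Kh hF P H).relIndex (V0.Bor hF) := OmegaMin.relIndex_pos _ _
    change (q + 1) * _ ≤ k at hki
    have hkq : q + 1 ≤ k := (Nat.le_mul_of_pos_right _ hr1).trans hki
    rcases card_wh_cases hF P H hfree with hW | hW
    · left
      refine tgt_le_cube (k := 2 * k) (by omega) (by omega) ?_
      refine Nat.le_of_mul_le_mul_right ?_ (show 0 < q ^ 2 from Nat.pow_pos (by omega))
      calc 2 * k * q ^ 3 * q ^ 2 = 2 * (k * q ^ 5) := by ring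
        _ ≤ 2 * (mP P H * Nat.card W) := Nat.mul_le_mul_left _ hmain
        _ = mP P H * (2 * Nat.card W) := by ring
        _ ≤ _ := Nat.mul_le_mul_left _ hW
    rw [hW] at hmain
    have hm : k * q ^ 3 ≤ mP P H := cancel_sq (q := q)
      (le_trans (le_of_eq (show k * q ^ 3 * q ^ 2 = k * q ^ 5 by ring)) hmain) (by omega)
    by_cases hk2 : q + 2 ≤ k
    · exact Or.inl (tgt_le_cube (by omega) hk2 hm)
    refine Or.inr (Or.inl ⟨V0, fun w => ⟨hline w, ?_⟩, ?_, (Nat.mul_le_mul_right _ hkq).trans hm⟩)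
    · rintro ⟨l, rfl⟩
      have he : (W : Set (Fin 2 → F)) = Set.range (fun l : F => l • V0.a) := by
        refine Set.eq_of_subset_of_ncard_le (fun w hw => ?_) ?_ (Set.toFinite _)
        · obtain ⟨l, hl⟩ := hline w hw; exact ⟨l, hl.symm⟩
        · rw [← Nat.card_coe_set_eq (W : Set (Fin 2 → F)), show Nat.card ↥(W : Set (Fin 2 → F)) = q ^ 2 from hW,
            Set.ncard_range_of_injective (smul_left_injective F V0.ane), Nat.card_eq_fintype_card, hF]
      exact he.ge ⟨l, rfl⟩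
    · refine Subgroup.relIndex_eq_one.1 (le_antisymm ?_ hr1)
      by_contra h
      have := (Nat.mul_le_mul_left (q + 1) (show 2 ≤ (Kh hF P H).relIndex (V0.Bor hF) by omega)).trans hki
      omega
  push Not at hline
  obtain ⟨b, hb, hbl⟩ := hline
  have hskew : ∀ x ∈ W, ∀ y ∈ W, h₂ x y ∈ skew hF := fun x hx y hy => by
    have e := h_add_self hF x y
    rw [hiso _ (W.add_mem hx hy), hiso x hx, hiso y hy, zero_add, add_zero] at e
    exact (mem_skew hF).2 e.symm
  have hab : h₂ V0.a b ≠ 0 := fun e => by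
    obtain ⟨l, hl⟩ := V0.perp hF (perp_symm hF e)
    exact hbl l hl
  let V : IsoPair hF := ⟨V0.a, b, h₂ V0.a b, V0.aa, hiso b hb, rfl, hab, hskew _ ha _ hb⟩
  have hWV : ∀ w ∈ W, w ∈ V.rat hF := fun w hw => by
    refine ⟨h₂ w V.b / V.c, -(h₂ w V.a / V.c), ?_, ?_, V.dec hF w⟩
    · rw [map_div₀, skew_neg hF (hskew w hw b hb), skew_neg hF V.cs, neg_div_neg_eq]
    · rw [map_neg, map_div₀, skew_neg hF (hskew w hw _ ha), skew_neg hF V.cs, neg_div_neg_eq]
  have hkW : q ^ 2 - 1 ≤ k * Nat.card W := by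
    have := V.orbit_rat hF (Kh hF P H) (kh_det hF P H hH) (V.a_mem hF) (V.ane hF) (W : Set (Fin 2 → F))
      fun g hg => kh_inv hF P H hH hg ha
    rwa [← Nat.card_coe_set_eq] at this
  have hbig : ∀ N : ℕ, q ^ 2 - 1 ≤ k * N → Nat.card W * N ≤ q ^ 2 → tgt q ≤ mP P H := by
    intro N h1 h2
    refine tgt_le_pow hq (Nat.le_of_mul_le_mul_right ?_ (show 0 < q ^ 2 from Nat.pow_pos (by omega)))
    calc q ^ 3 * (q ^ 2 - 1) * q ^ 2 = q ^ 5 * (q ^ 2 - 1) := by ring
      _ ≤ q ^ 5 * (k * N) := Nat.mul_le_mul_left _ h1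
      _ = k * q ^ 5 * N := by ring
      _ ≤ mP P H * Nat.card W * N := Nat.mul_le_mul_right _ hmain
      _ = mP P H * (Nat.card W * N) := by ring
      _ ≤ _ := Nat.mul_le_mul_left _ h2
  by_cases hsmall : Nat.card W ≤ q
  · exact Or.inl (hbig _ hkW (by rw [pow_two]; exact Nat.mul_le_mul hsmall hsmall))
  obtain ⟨ψ, hψ, x0, hx0, hψ0⟩ := free_char hF P H hfree
  let B : V.rat hF →+ V.rat hF →+ F :=
    ((formHom (m := 2) hF).comp (V.rat hF).subtype).compr₂ (AddMonoidHom.id F) |>.compl₂ (V.rat hF).subtype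
  have hB : ∀ x y : V.rat hF, B x y = h₂ x.1 y.1 := fun x y => rfl
  have hnd : ∀ x : V.rat hF, x ≠ 0 → ∃ y, ψ (B y x) ≠ 1 := by
    rintro ⟨x, hx⟩ hne
    obtain ⟨V', rfl, hV'⟩ := V.reselect hF hx fun e => hne (Subtype.ext e)
    have hmem : (-(x0 / V'.c)) • V'.b ∈ V.rat hF := by
      rw [← hV']
      exact ⟨0, -(x0 / V'.c), map_zero _, by
        rw [map_neg, map_div₀, skew_neg hF hx0, skew_neg hF V'.cs, neg_div_neg_eq], by rw [zero_smul, zero_add]⟩
    refine ⟨⟨_, hmem⟩, ?_⟩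
    rw [hB]
    show ψ (h₂ ((-(x0 / V'.c)) • V'.b) V'.a) ≠ 1
    rwa [h_smul_left, V'.ba, neg_mul_neg, div_mul_cancel₀ _ V'.c0]
  let W0 : AddSubgroup (V.rat hF) := W.comap (V.rat hF).subtype
  have hW0 : Nat.card W0 = Nat.card W := Nat.card_congr
    { toFun := fun a => ⟨a.1.1, a.2⟩
      invFun := fun a => ⟨⟨a.1, hWV _ a.2⟩, a.2⟩
      left_inv := fun a => rfl
      right_inv := fun a => rfl }
  have hann := card_ann B ψ hnd W0
  rw [hW0, V.card_rat hF] at hann
  by_cases hA : ∀ z ∈ ann B ψ W0, z = 0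
  swap
  · push Not at hA
    obtain ⟨z, hz, hz0⟩ := hA
    refine Or.inl (hbig (Nat.card (ann B ψ W0)) ?_ (by rw [mul_comm, hann]))
    have hrat : ∀ g ∈ Kh hF P H, ∀ y ∈ V.rat hF, g.1.1 *ᵥ y ∈ V.rat hF := by
      rintro g hg _ ⟨x, y, hx, hy, rfl⟩
      obtain ⟨x1, y1, hx1, hy1, e1⟩ := hWV _ (kh_inv hF P H hH hg ha)
      obtain ⟨x2, y2, hx2, hy2, e2⟩ := hWV _ (kh_inv hF P H hH hg hb)
      rw [mulVec_add, mulVec_smul, mulVec_smul, e1, e2]
      exact ⟨x * x1 + y * x2, x * y1 + y * y2, by simp [hx, hy, hx1, hx2], by simp [hx, hy, hy1, hy2], by module⟩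
    have h := V.orbit_rat hF (Kh hF P H) (kh_det hF P H hH) z.2 (fun e => hz0 (Subtype.ext e))
      (Subtype.val '' (ann B ψ W0 : Set (V.rat hF))) fun g hg => ⟨⟨_, hrat g hg _ z.2⟩, fun w hw => ?_, rfl⟩
    · rwa [Set.ncard_image_of_injective _ Subtype.val_injective, ← Nat.card_coe_set_eq] at h
    · have hg' := inv_mem hg
      have := hz ⟨_, hrat _ hg' _ w.2⟩ (kh_inv hF P H hH hg' hw)
      rw [hB] at this ⊢
      rwa [← gu_h g, apply_inv_apply] at this
  haveI : Subsingleton (ann B ψ W0) := ⟨fun x y => Subtype.ext ((hA _ x.2).trans (hA _ y.2).symm)⟩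
  rw [Nat.card_of_subsingleton (0 : ann B ψ W0), one_mul] at hann
  have hWeq : W = V.rat hF := AddSubgroup.eq_of_le_of_card_ge hWV (by rw [hann, V.card_rat hF])
  have h2 : (2 : F) = 0 := by
    by_contra h2
    obtain ⟨x, hx, hxZ⟩ := hfree
    have hl : σ (x / (2 * V.c)) = x / (2 * V.c) := by
      rw [map_div₀, map_mul, two_fix hF, skew_neg hF hx, skew_neg hF V.cs, mul_neg, neg_div_neg_eq]
    have hm : (x / (2 * V.c)) • V.b ∈ W := by
      rw [hWeq]; exact ⟨0, _, map_zero _, hl, by rw [zero_smul, zero_add]⟩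
    have := bracket hF P H ha hm
    rw [h_smul_right hF, hl, h_smul_left] at this
    have e : x / (2 * V.c) * h₂ V0.a V.b - x / (2 * V.c) * h₂ V.b V0.a = x := by
      rw [show h₂ V0.a V.b = V.c from V.ab, show h₂ V.b V0.a = -V.c from V.ba hF]
      have := V.c0
      field_simp
      ring
    rw [e] at this
    exact hxZ this
  rw [hann] at hmain
  have hm : k * q ^ 3 ≤ mP P H := cancel_sq (q := q)
    (le_trans (le_of_eq (show k * q ^ 3 * q ^ 2 = k * q ^ 5 by ring)) hmain) (by omega)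
  by_cases hk2 : q + 2 ≤ k
  · exact Or.inl (tgt_le_cube (by omega) hk2 hm)
  · exact Or.inr (Or.inr ⟨V, h2, hWeq, (show k ≤ q + 1 by omega), (Nat.le_mul_of_pos_left _ hk1).trans hm⟩)

end CfsgLib.PsuFour
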