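import Mathlib
import Cfsg.Agent.Lib.PsuFour.Cases
import Cfsg.Agent.Lib.PsuMin.Nb
import Cfsg.Agent.Lib.DicksonFull.Subgroups
import Cfsg.Agent.Lib.SLCard
import Cfsg.Agent.S0281

/-! Symplectic translations at a free point. -/

set_option autoImplicit false

namespace CfsgLib.PsuFour

open Matrix CfsgLib.UnitaryTransvection CfsgLib.PsuMin CfsgLib.HermCount Module

variable {F : Type*} [Field F] [Fintype F] {q : ℕ} (hF : Fintype.card F = q ^ 2)

local notation "σ" => frob hF
local notation "h₂" => Cfsg.hermForm 2 F q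
local notation "G₂" => Cfsg.GU 2 F q

include hF in
/-- The plane group in even characteristic. -/
theorem plane_group (h2 : (2 : F) = 0) (hq : 3 ≤ q) :
    Nat.card (det1 F q 2) = q * (q ^ 2 - 1) ∧
      ∀ K : Subgroup G₂, K ≤ det1 F q 2 → K.relIndex (det1 F q 2) ≠ 1 → q + 1 ≤ K.relIndex (det1 F q 2) := by
  classical
  obtain ⟨p, f, hp, hpf⟩ := exists_prime hF
  have hc2 : ringChar F = 2 := CharP.ringChar_of_prime_eq_zero Nat.prime_two (by exact_mod_cast h2)
  have hev := FiniteField.even_card_of_char_two hc2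
  rw [hF, hpf, ← pow_mul] at hev
  have hp2 : p = 2 := by
    rcases hp.eq_two_or_odd with h | h
    · exact h
    · rw [Nat.pow_mod, h, one_pow] at hev; norm_num at hev
  subst hp2
  haveI : Fact (Nat.Prime 2) := ⟨hp⟩
  have hf0 : f ≠ 0 := fun e => by rw [hpf, e, pow_zero] at hq; omega
  let R := GaloisField 2 f
  haveI : Fintype R := Fintype.ofFinite R
  have hR : Fintype.card R = q := by rw [← Nat.card_eq_fintype_card, GaloisField.card 2 f hf0, hpf]
  obtain ⟨e0⟩ := Cfsg.Agent.S0281.result (F := F) (K := R) hF hR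
  let e : det1 F q 2 ≃* Matrix.SpecialLinearGroup (Fin 2) R :=
    ((MulEquiv.subgroupCongr (incl_range hF).symm).trans (MonoidHom.ofInjective (incl_injective hF)).symm).trans e0
  refine ⟨?_, fun K hK hne => ?_⟩
  · rw [Nat.card_congr e.toEquiv, SLCard.card_SL_two, hR]
  let π := (QuotientGroup.mk' (Subgroup.center (Matrix.SpecialLinearGroup (Fin 2) R))).comp e.toMonoidHom
  have hπ : Function.Surjective π := (QuotientGroup.mk'_surjective _).comp e.surjective
  have hR2 : (2 : R) = 0 := CharTwo.two_eq_zero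
  have hker : π.ker ≤ K.subgroupOf (det1 F q 2) := by
    intro g hg
    have hc : e g ∈ Subgroup.center (Matrix.SpecialLinearGroup (Fin 2) R) := (QuotientGroup.eq_one_iff _).1 hg
    obtain ⟨r, hr, hre⟩ := Matrix.SpecialLinearGroup.mem_center_iff.1 hc
    simp only [Fintype.card_fin] at hr
    have hr1 : r = 1 := by
      have h4 : (r - 1) ^ 2 = 0 := by linear_combination hr + (1 - r) * hR2
      exact sub_eq_zero.1 (pow_eq_zero_iff (n := 2) (by norm_num) |>.1 h4)
    have : e g = 1 := Subtype.ext (by rw [← hre, hr1]; simp)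
    rw [e.map_eq_one_iff.1 this]
    exact one_mem _
  have h := Subgroup.index_map_eq (K.subgroupOf (det1 F q 2)) hπ hker
  change q + 1 ≤ (K.subgroupOf (det1 F q 2)).index
  rw [← h]
  refine (le_of_eq (congrArg (· + 1) hR).symm).trans (CfsgLib.DicksonFull.min_index 2 ?_ fun ht => hne ?_)
  · have he : Even q := by rw [hpf]; exact (Nat.even_pow' hf0).2 even_two
    obtain ⟨r, hr⟩ := he
    simp only [Finset.mem_insert, Finset.mem_singleton, hR]
    omega
  · show (K.subgroupOf (det1 F q 2)).index = 1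
    rw [← h, ht, Subgroup.index_top]

include hF in
theorem sq_surj (h2 : (2 : F) = 0) {f : F} (hf : σ f = f) : ∃ z : F, σ z = z ∧ z * z = f := by
  let φ : {x : F // σ x = x} → {x : F // σ x = x} := fun x => ⟨x.1 * x.1, by rw [map_mul, x.2]⟩
  have hinj : Function.Injective φ := fun x y e => Subtype.ext (by
    have e' : x.1 * x.1 = y.1 * y.1 := congrArg Subtype.val e
    have : (x.1 - y.1) * (x.1 - y.1) = 0 := by linear_combination e' + (y.1 * y.1 - x.1 * y.1) * h2
    exact sub_eq_zero.1 (mul_self_eq_zero.1 this))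
  obtain ⟨z, hz⟩ := Finite.surjective_of_injective hinj ⟨f, hf⟩
  exact ⟨z.1, z.2, congrArg Subtype.val hz⟩

include hF in
theorem exists_fix_ne (hq : 3 ≤ q) : ∃ t : F, σ t = t ∧ t ≠ 0 ∧ t ≠ 1 := by
  classical
  by_contra hno
  push Not at hno
  have hsub : {x : F | σ x = x} ⊆ ({0, 1} : Set F) := fun x hx => by
    by_cases h : x = 0
    · exact Or.inl h
    · exact Or.inr (hno x hx h)
  have := (Set.ncard_le_ncard hsub (Set.toFinite _)).trans (Set.ncard_insert_le _ _)
  rw [← Nat.card_coe_set_eq, show Nat.card {x : F | σ x = x} = Nat.card {x : F // σ x = x} from rfl,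
    card_fix hF, Set.ncard_singleton] at this
  omega

variable (P : HPair F q) (H : Subgroup (Cfsg.GU (2 + 2) F q)) (V : IsoPair hF)

/-- The image of a rational vector under a root element. -/
theorem root_zb {c : F} (hc : c ∈ skew hF) (z : F) :
    (root hF V.a c).1.1 *ᵥ (z • V.b) = (-(c * V.c) * z) • V.a + z • V.b := by
  conv_lhs => rw [show z • V.b = (0 : F) • V.a + z • V.b by rw [zero_smul, zero_add]]
  rw [V.root_apply' hF hc]
  congr 2
  ring

theorem mu_fix {c : F} (hc : c ∈ skew hF) : σ (-(c * V.c)) = -(c * V.c) := by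
  rw [map_neg, map_mul, skew_neg hF hc, skew_neg hF V.cs]; ring

/-- Two root elements in the Levi image force a root element at the point. -/
theorem two_roots (hH : H ≤ det1 F q (2 + 2)) (hq : 3 ≤ q) (hW : Wh hF P H = V.rat hF) {c1 c2 : F}
    (hc1 : c1 ∈ skew hF) (hc2 : c2 ∈ skew hF) (h10 : c1 ≠ 0) (h20 : c2 ≠ 0) (h12 : c1 ≠ c2)
    (hk1 : root hF V.a c1 ∈ Kh hF P H) (hk2 : root hF V.a c2 ∈ Kh hF P H) :
    ∃ z ∈ Zh hF P H, z ≠ 0 := by
  by_contra hno
  push Not at hno
  have hmem : ∀ x y : F, σ x = x → σ y = y → x • V.a + y • V.b ∈ Wh hF P H := fun x y hx hy =>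
    hW ▸ ⟨x, y, hx, hy, rfl⟩
  have huni : ∀ {w : Fin 2 → F} {s s' : F}, Ok hF w s → Ok hF w s' → uel hF P w s ∈ H →
      uel hF P w s' ∈ H → s' = s := fun hs hs' h h' =>
    sub_eq_zero.1 (hno _ (uel_diff hF P H hs hs' h h'))
  choose! S hS hS' using fun w (hw : w ∈ Wh hF P H) => hw
  have key : ∀ c ∈ skew hF, c ≠ 0 → root hF V.a c ∈ Kh hF P H → ∃ β : F, ∀ y : F, σ y = y →
      S (y • V.a) = y * β - y * y * (V.c / -(c * V.c)) := by
    intro c hc hc0 hk
    obtain ⟨d, t, ht, hp⟩ := (mem_Kh hF P H hH).1 hk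
    set μ := -(c * V.c)
    have hμ0 : μ ≠ 0 := neg_ne_zero.2 (mul_ne_zero hc0 V.c0)
    have hμs : σ μ = μ := mu_fix hF V hc
    refine ⟨(h₂ d V.b - h₂ V.b d) / μ, fun y hy => ?_⟩
    have hzs : σ (y / μ) = y / μ := by rw [map_div₀, hy, hμs]
    have hwb : (y / μ) • V.b ∈ Wh hF P H := by
      have := hmem 0 _ (map_zero _) hzs
      rwa [zero_smul, zero_add] at this
    have hwa : y • V.a ∈ Wh hF P H := by
      have := hmem y 0 hy (map_zero _)
      rwa [zero_smul, add_zero] at this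
    obtain ⟨o1, m1⟩ := conj_wh hF P H ht hp (hS _ hwb) (hS' _ hwb)
    have o2 := ok_add hF (hS _ hwa) (hS _ hwb)
    have m2 := mul_mem (hS' _ hwa) (hS' _ hwb)
    rw [uel_mul hF P (hS _ hwa) (hS _ hwb)] at m2
    have e : (root hF V.a c).1.1 *ᵥ ((y / μ) • V.b) = y • V.a + (y / μ) • V.b := by
      rw [root_zb hF V hc, mul_div_cancel₀ _ hμ0]
    rw [e] at o1 m1
    have := huni o1 o2 m1 m2
    rw [h_smul_right hF, h_smul_left, h_smul_left, h_smul_right hF, hzs, hy, V.ba] at this
    have e2 : y * ((h₂ d V.b - h₂ V.b d) / μ) = (y / μ) * h₂ d V.b - (y / μ) * h₂ V.b d := by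
      field_simp
    have e3 : y * y * (V.c / μ) = y / μ * (y * V.c) := by field_simp
    rw [e2, e3]
    linear_combination this
  obtain ⟨β1, e1⟩ := key c1 hc1 h10 hk1
  obtain ⟨β2, e2⟩ := key c2 hc2 h20 hk2
  set A := V.c / -(c1 * V.c) - V.c / -(c2 * V.c)
  have hA : A ≠ 0 := by
    have hc := V.c0
    intro e
    rw [sub_eq_zero, div_eq_div_iff (neg_ne_zero.2 (mul_ne_zero h10 hc)) (neg_ne_zero.2 (mul_ne_zero h20 hc))] at e
    exact h12 (mul_left_cancel₀ (mul_ne_zero hc hc) (by linear_combination e))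
  have h : ∀ y : F, σ y = y → y * (β1 - β2) = y * y * A := fun y hy => by
    have := (e1 y hy).symm.trans (e2 y hy)
    linear_combination this
  have h1 := h 1 (map_one _)
  obtain ⟨t, hts, ht0, ht1⟩ := exists_fix_ne hF hq
  refine ht1 (mul_left_cancel₀ (mul_ne_zero ht0 hA) ?_)
  linear_combination -(h t hts) + t * h1

/-- The root elements at the first vector are trivial after centring. -/
theorem no_root (hfree : Free hF P H) (hH : H ≤ det1 F q (2 + 2)) (h2 : (2 : F) = 0) (hW : Wh hF P H = V.rat hF)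
    {g : G₂} {t τ : F} (ht : σ t = t) (ht1 : t ≠ 1) (hga : g.1.1 *ᵥ V.a = t • V.a) (hτ : τ ∈ skew hF)
    (hl : emb hF P 1 g * root hF (vp P) τ ∈ H) {c : F} (hc : c ∈ skew hF)
    (hroot : root hF (inc V.a : Fin (2 + 2) → F) c ∈ H) : c = 0 := by
  by_contra hc0
  have hτ' : Ok hF (0 : Fin 2 → F) τ := by unfold Ok; rw [h_zero_left hF, zero_add]; exact hτ
  rw [← uel_zero hF P hτ] at hl
  have hzero : ∀ y : F, σ y = y → Ok hF (y • V.a) 0 ∧ uel hF P (y • V.a) 0 ∈ H := by
    intro y hy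
    have hok : Ok hF (y • V.a) 0 := by
      unfold Ok; rw [h_smul_left, h_smul_right hF, V.aa]; simp
    refine ⟨hok, ?_⟩
    set z := y / (t - 1) with hz
    have hzs : σ z = z := by rw [hz, map_div₀, map_sub, map_one, hy, ht]
    obtain ⟨s, hs, hs'⟩ : z • V.a ∈ Wh hF P H :=
      hW ▸ ⟨z, 0, hzs, map_zero _, by rw [zero_smul, add_zero]⟩
    obtain ⟨o1, m1⟩ := conj_wh hF P H hτ' hl hs hs'
    rw [h_zero_left hF, h_zero_right hF, sub_zero, zero_add, mulVec_smul, hga, smul_smul] at o1 m1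
    have m2 := mul_mem m1 (inv_mem hs')
    rw [uel_inv hF P hs, uel_mul hF P o1 (ok_neg hF hs)] at m2
    have e1 : (z * t) • V.a + -(z • V.a) = y • V.a := by
      rw [← neg_smul, ← add_smul, show z * t + -z = z * (t - 1) by ring, hz,
        div_mul_cancel₀ _ (sub_ne_zero.2 ht1)]
    have hss : s + σ s = 0 := by
      unfold Ok at hs
      rw [h_smul_left, h_smul_right hF, V.aa] at hs
      linear_combination hs
    have e2 : s + σ s - h₂ (-(z • V.a)) ((z * t) • V.a) = 0 := by
      rw [h_neg_left, h_smul_left, h_smul_right hF, V.aa, hss]; simp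
    rwa [e1, e2] at m2
  set μ := -(c * V.c)
  have hμ0 : μ ≠ 0 := neg_ne_zero.2 (mul_ne_zero hc0 V.c0)
  have hμs : σ μ = μ := mu_fix hF V hc
  rw [← emb_root hF P V.aa hc] at hroot
  have h0 : Ok hF (0 : Fin 2 → F) (0 : F) := by unfold Ok; rw [h_zero_left hF]; simp
  have hl' : emb hF P 1 (root hF V.a c) * uel hF P 0 0 ∈ H := by rwa [uel_one, mul_one]
  have hall : ∀ z : F, σ z = z → z * z * μ * V.c ∈ Zh hF P H := by
    intro z hz
    obtain ⟨s, hs, hs'⟩ : z • V.b ∈ Wh hF P H :=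
      hW ▸ ⟨0, z, map_zero _, hz, by rw [zero_smul, zero_add]⟩
    obtain ⟨o1, m1⟩ := conj_wh hF P H h0 hl' hs hs'
    rw [h_zero_left hF, h_zero_right hF, sub_zero, zero_add, root_zb hF V hc] at o1 m1
    obtain ⟨o2, m2⟩ := hzero (μ * z) (by rw [map_mul, hμs, hz])
    have o3 := ok_add hF o2 hs
    have m3 := mul_mem m2 hs'
    rw [uel_mul hF P o2 hs] at m3
    have := uel_diff hF P H o1 o3 m1 m3
    rw [h_smul_left, h_smul_right hF, map_mul, hμs, hz, V.ba] at this
    convert this using 1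
    ring
  obtain ⟨x, hx, hxZ⟩ := hfree
  obtain ⟨z, hz, hz'⟩ := sq_surj hF h2 (f := x / (μ * V.c))
    (by rw [map_div₀, map_mul, hμs, skew_neg hF hx, skew_neg hF V.cs, mul_neg, neg_div_neg_eq])
  refine hxZ ?_
  have := hall z hz
  rwa [hz', mul_assoc, div_mul_cancel₀ _ (mul_ne_zero hμ0 V.c0)] at this

include hF in
/-- The symplectic case. -/
theorem typeN_out (hq : 3 ≤ q) (hH : H ≤ det1 F q (2 + 2)) (hfree : Free hF P H) (hN : TypeN hF P H) :
    tgt q ≤ mP P H ∨ (q ^ 3 ≤ mP P H ∧ (∃ z ∈ Zh hF P H, z ≠ 0) ∧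
      ∃ x ∈ Isot F q (2 + 2), ∀ c ∈ skew hF, root hF x c ∈ H → c = 0) := by
  classical
  obtain ⟨V, h2, hW, hk, hm⟩ := hN
  obtain ⟨hcard, hmin⟩ := plane_group hF h2 hq
  by_cases hk1 : kP hF P H = 1
  · right
    have hall : det1 F q 2 ≤ Kh hF P H := Subgroup.relIndex_eq_one.1 hk1
    obtain ⟨c1, hc10, hc1⟩ := exists_skew hF
    obtain ⟨t, hts, ht0, ht1⟩ := exists_fix_ne hF hq
    have hc2 : c1 * t ∈ skew hF := skew_mul_fix hF hc1 hts
    refine ⟨hm, two_roots hF P H V hH hq hW hc1 hc2 hc10 (mul_ne_zero hc10 ht0)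
      (fun e => ht1 (mul_left_cancel₀ hc10 (by rw [mul_one]; exact e.symm)))
      (hall (root_mem hF V.aa hc1)) (hall (root_mem hF V.aa hc2)), ?_⟩
    obtain ⟨g, hg, hga, hgb⟩ := V.exists_torus hF hts ht0
    obtain ⟨b, r, hbr, τ, hτ, hl⟩ := exists_moved hF P H hH (hall hg) (fun x hx => by
      rw [V.dec hF x, mulVec_add, mulVec_smul, mulVec_smul, hga, hgb, smul_smul, smul_smul] at hx
      have ea := congrArg (fun z => h₂ z V.b) hx
      have eb := congrArg (fun z => h₂ z V.a) hx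
      simp only [h_add_left, h_smul_left, V.aa, V.ab, V.bb, V.ba, mul_zero, add_zero, zero_add] at ea eb
      have hx1 : h₂ x V.b = 0 := by
        have h1 : h₂ x V.b / V.c * ((t - 1) * V.c) = 0 := by linear_combination ea
        rcases mul_eq_zero.1 h1 with h | h
        · exact (div_eq_zero_iff.1 h).resolve_right V.c0
        · exact absurd h (mul_ne_zero (sub_ne_zero.2 ht1) V.c0)
      have hx2 : h₂ x V.a = 0 := by
        have h1 : h₂ x V.a / V.c * ((t⁻¹ - 1) * V.c) = 0 := by linear_combination eb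
        rcases mul_eq_zero.1 h1 with h | h
        · exact (div_eq_zero_iff.1 h).resolve_right V.c0
        · exact absurd h (mul_ne_zero (sub_ne_zero.2 (fun e => ht1 (inv_eq_one.1 e))) V.c0)
      rw [V.dec hF x, hx1, hx2]; simp)
    set u := uel hF P b r
    set H' := H.comap (MulAut.conj u).toMonoidHom
    have hH' : H' ≤ det1 F q (2 + 2) := conj_le hH u
    have hfree' : Free hF P H' := by
      obtain ⟨x, hx, hxZ⟩ := hfree
      exact ⟨x, hx, by rwa [zh_moved hF P H hbr]⟩
    refine ⟨u.1.1 *ᵥ inc V.a, ⟨mulVec_ne_zero u fun e => V.ane hF (by rw [← pr_inc (s := 2) V.a, e, pr_zero]),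
      by rw [gu_h u, h_inc hF, V.aa]⟩, fun c hc hroot => ?_⟩
    refine no_root hF P H' V hfree' hH' h2 (by rw [wh_moved hF P H hbr]; exact hW) hts ht1 hga hτ hl hc
      ((mem_conj H u _).2 ?_)
    rwa [root_conj hF u (by rw [h_inc hF, V.aa]) hc]
  left
  have hkq : kP hF P H = q + 1 := le_antisymm hk (hmin _ (kh_det hF P H hH) hk1)
  set K := Kh hF P H
  have hKc : Nat.card K = q * (q - 1) := by
    have h := Subgroup.card_mul_index (K.subgroupOf (det1 F q 2))
    rw [Nat.card_congr (Subgroup.subgroupOfEquivOfLe (kh_det hF P H hH)).toEquiv, hcard,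
      show (K.subgroupOf (det1 F q 2)).index = q + 1 from hkq] at h
    refine Nat.eq_of_mul_eq_mul_right (show 0 < q + 1 by omega) (h.trans ?_)
    rw [show q ^ 2 - 1 = (q + 1) * (q - 1) by rw [← Nat.sq_sub_sq, one_pow]]; ring
  have h4 : 2 ^ 2 ∣ q * (q - 1) := by
    obtain ⟨p, f, hp, hpf⟩ := exists_prime hF
    have hc2 : ringChar F = 2 := CharP.ringChar_of_prime_eq_zero Nat.prime_two (by exact_mod_cast h2)
    have hev := FiniteField.even_card_of_char_two hc2
    rw [hF, hpf, ← pow_mul] at hev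
    have hp2 : p = 2 := by
      rcases hp.eq_two_or_odd with h | h
      · exact h
      · rw [Nat.pow_mod, h, one_pow] at hev; norm_num at hev
    subst hp2
    refine Dvd.dvd.mul_right ?_ _
    rw [hpf]
    refine pow_dvd_pow 2 ?_
    by_contra hf
    have : q ≤ 2 := by rw [hpf]; exact (Nat.pow_le_pow_right (by norm_num) (by omega : f ≤ 1)).trans (by norm_num)
    omega
  haveI : Fact (Nat.Prime 2) := ⟨Nat.prime_two⟩
  obtain ⟨S, hS⟩ := Sylow.exists_subgroup_card_pow_prime 2 (G := K) (hKc ▸ h4)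
  have hinv : ∀ g : S, ∀ w ∈ V.rat hF, (g.1.1).1.1 *ᵥ w ∈ V.rat hF := fun g w hw => by
    rw [← hW] at hw ⊢
    exact kh_inv hF P H hH g.1.2 hw
  letI : MulAction S (V.rat hF) :=
    { smul := fun g w => ⟨_, hinv g w.1 w.2⟩
      one_smul := fun w => Subtype.ext (PsuMin.one_apply w.1)
      mul_smul := fun g g' w => Subtype.ext (PsuMin.mul_apply g.1.1 g'.1.1 w.1) }
  have hS2 : IsPGroup 2 S := IsPGroup.of_card hS
  obtain ⟨w, hw, hw0⟩ := hS2.exists_fixed_point_of_prime_dvd_card_of_fixed_point (V.rat hF) (by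
      rw [V.card_rat hF]
      exact Dvd.dvd.pow (by
        have := (dvd_pow_self 2 two_ne_zero).trans h4
        rcases (Nat.prime_two.dvd_mul).1 this with h | h
        · exact h
        · obtain ⟨p, f, hp, hpf⟩ := exists_prime hF
          have hc2 : ringChar F = 2 := CharP.ringChar_of_prime_eq_zero Nat.prime_two (by exact_mod_cast h2)
          have hev := FiniteField.even_card_of_char_two hc2
          rw [hF, Nat.pow_mod] at hev
          have : q % 2 = 0 := by
            rcases Nat.mod_two_eq_zero_or_one q with h | h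
            · exact h
            · rw [h] at hev; norm_num at hev
          exact Nat.dvd_of_mod_eq_zero this) two_ne_zero)
    (a := 0) (fun g => Subtype.ext (by
      show (g.1.1).1.1 *ᵥ (0 : Fin 2 → F) = 0
      exact mulVec_zero _))
  obtain ⟨V', hV', hVV⟩ := V.reselect hF w.2 fun e => hw0 (Subtype.ext e.symm)
  choose cs hcs hroot using fun g : S => V'.fix_root hF (kh_det hF P H hH g.1.2) (by
    rw [hV']; exact congrArg Subtype.val (MulAction.mem_fixedPoints.1 hw g))
  have hinj : Function.Injective cs := fun g g' e => Subtype.ext (Subtype.ext (by rw [hroot g, hroot g', e]))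
  obtain ⟨g1, hg1⟩ : ∃ g : S, cs g ≠ 0 := by
    by_contra hno
    push Not at hno
    haveI : Subsingleton S := ⟨fun x y => hinj ((hno x).trans (hno y).symm)⟩
    have : Nat.card S = 1 := Nat.card_of_subsingleton (1 : S)
    omega
  obtain ⟨g2, hg2, hg12⟩ : ∃ g : S, cs g ≠ 0 ∧ cs g ≠ cs g1 := by
    by_contra hno
    push Not at hno
    have hle : Nat.card S ≤ ({0, cs g1} : Set F).ncard := by
      rw [← Nat.card_coe_set_eq]
      refine Nat.card_le_card_of_injective (fun g => (⟨cs g, ?_⟩ : ({0, cs g1} : Set F))) fun x y e => hinj (congrArg Subtype.val e)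
      by_cases h : cs g = 0
      · exact Or.inl h
      · exact Or.inr (hno g h)
    have := hle.trans (Set.ncard_insert_le _ _)
    rw [Set.ncard_singleton] at this
    omega
  obtain ⟨z, hz, hz0⟩ := two_roots hF P H V' hH hq (hW.trans hVV.symm) (hcs g1) (hcs g2) hg1 hg2 (Ne.symm hg12)
    (hroot g1 ▸ g1.1.2) (hroot g2 ▸ g2.1.2)
  have h := tr_ineq hF P H hH hfree hz hz0
  rw [hkq, hW, V.card_rat hF] at h
  refine le_trans ?_ (cancel_sq (q := q)
    (le_trans (le_of_eq (show (q + 1) * (q + 1) * q ^ 2 * q ^ 2 = (q + 1) * q ^ 4 * (q + 1) by ring)) h)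
    (by omega))
  have : q ^ 3 + 1 ≤ (q + 1) * q ^ 2 := by
    have : 1 ≤ q ^ 2 := Nat.one_le_pow _ _ (by omega)
    rw [add_mul, one_mul, show q * q ^ 2 = q ^ 3 by ring]
    omega
  calc tgt q ≤ (q + 1) * ((q + 1) * q ^ 2) := Nat.mul_le_mul_left _ this
    _ = _ := by ring

end CfsgLib.PsuFour
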