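import Mathlib
import Cfsg.Agent.Lib.PsuFour.TypeN

/-! Translations along a totally isotropic line at a free point. -/

set_option autoImplicit false

namespace CfsgLib.PsuFour

open Matrix CfsgLib.UnitaryTransvection CfsgLib.PsuMin CfsgLib.HermCount Module

variable {F : Type*} [Field F] [Fintype F] {q : ℕ} (hF : Fintype.card F = q ^ 2)

local notation "σ" => frob hF
local notation "h₂" => Cfsg.hermForm 2 F q
local notation "h₄" => Cfsg.hermForm (2 + 2) F q
local notation "G₂" => Cfsg.GU 2 F q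

/-- Over three elements one root element gives all. -/
theorem full_three (hq : q = 3) {n : ℕ} (H : Subgroup (Cfsg.GU n F q)) {z : Fin n → F}
    (hz : Cfsg.hermForm n F q z z = 0) {c : F} (hc : c ∈ skew hF) (hc0 : c ≠ 0) (h : root hF z c ∈ H) :
    ∀ d ∈ skew hF, root hF z d ∈ H := by
  let S : AddSubgroup F :=
    { carrier := {d | d ∈ skew hF ∧ root hF z d ∈ H}
      zero_mem' := ⟨zero_mem _, by rw [root_zero hF hz]; exact one_mem H⟩
      add_mem' := fun {x y} hx hy => ⟨add_mem hx.1 hy.1, by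
        rw [← root_mul hF hz hx.1 hy.1]; exact mul_mem hx.2 hy.2⟩
      neg_mem' := fun {x} hx => ⟨neg_mem hx.1, by rw [← root_inv hF hz hx.1]; exact inv_mem hx.2⟩ }
  have hd : Nat.card S ∣ 3 := by
    conv_rhs => rw [← hq, ← card_skew hF]
    exact AddSubgroup.card_dvd_of_le fun x hx => hx.1
  have hge : 3 ≤ Nat.card S := by
    rcases (Nat.dvd_prime Nat.prime_three).1 hd with e | e
    · haveI := (Nat.card_eq_one_iff_unique.1 e).1
      exact absurd (congrArg Subtype.val (Subsingleton.elim (⟨c, hc, h⟩ : S) ⟨0, zero_mem _⟩)) hc0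
    · omega
  have he : S = skew hF := AddSubgroup.eq_of_le_of_card_ge (fun x hx => hx.1) (by rw [card_skew hF, hq]; exact hge)
  exact fun d hd => (he.symm ▸ hd : d ∈ S).2

variable (P : HPair F q) (H : Subgroup (Cfsg.GU (2 + 2) F q)) (V : IsoPair hF)

/-- Full root points orthogonal to the point lie in a plane. -/
theorem roots_in_plane (hW : ∀ w, w ∈ Wh hF P H ↔ ∃ k : F, w = k • V.a) (hH : H ≤ det1 F q (2 + 2))
    {r : Fin (2 + 2) → F} (hr : Rt hF H r) (hrp : h₄ r (vp P) = 0) :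
    r ∈ Submodule.span F {(vp P : Fin (2 + 2) → F), inc V.a} := by
  obtain ⟨c, hc0, hc⟩ := exists_skew hF
  have hg := hr.2.2 c hc
  have hfix : (root hF r c).1.1 *ᵥ (vp P : Fin (2 + 2) → F) = vp P := by
    rw [root_apply hF hr.2.1 hc, perp_symm hF hrp, mul_zero, zero_smul, add_zero]
  have hl : root hF r c ∈ Line (F := F) (q := q) 2 P := ⟨root_mem hF hr.2.1 hc, 1, by rw [one_smul]; exact hfix⟩
  set g := rho hF P ⟨_, hl⟩ with hgdef
  have h1 : g.1 = 1 := Units.ext (by
    show h₄ ((root hF r c).1.1 *ᵥ vp P) (wp P) = 1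
    rw [hfix, vp_wp hF])
  have h2 : ∀ y : Fin 2 → F, g.2.1.1 *ᵥ y = y + (c * h₂ y (pr r)) • pr r := fun y => by
    show (small hF P ⟨_, hl⟩).1.1 *ᵥ y = _
    rw [small_apply]
    show pr ((root hF r c).1.1 *ᵥ inc y) = _
    rw [root_apply hF hr.2.1 hc, pr_add, pr_smul, pr_inc, h_split, pr_inc, lo_inc, h_zero_left hF, add_zero]
  have hK : g.2 ∈ Kh hF P H := by
    show ((1 : Fˣ), g.2) ∈ Rg hF P H
    rw [← h1]
    exact ⟨⟨_, hl⟩, Subgroup.mem_subgroupOf.2 hg, rfl⟩
  have ha : V.a ∈ Wh hF P H := (hW _).2 ⟨1, (one_smul F _).symm⟩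
  obtain ⟨k, hk⟩ := (hW _).1 (kh_inv hF P H hH hK ha)
  rw [h2] at hk
  have hp : h₂ V.a (pr r) = 0 := by
    have e := congrArg (fun z => h₂ z V.a) hk
    simp only [h_add_left, h_smul_left, V.aa, mul_zero, zero_add] at e
    rcases mul_eq_zero.1 e with e1 | e1
    · exact (mul_eq_zero.1 e1).resolve_left hc0
    · exact perp_symm hF e1
  obtain ⟨l, hl'⟩ := V.perp hF (perp_symm hF hp)
  have hlo : h₂ (lo r) P.v = 0 := by rw [← h_vp hF]; exact hrp
  have hloe := P.dec hF (lo r)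
  rw [hlo, zero_smul, add_zero] at hloe
  refine Submodule.mem_span_pair.2 ⟨h₂ (lo r) P.w, l, ext2 ?_ ?_⟩
  · rw [pr_add, pr_smul, pr_smul, pr_top, pr_inc, smul_zero, zero_add, hl']
  · rw [lo_add, lo_smul, lo_smul, lo_top, lo_inc, smul_zero, add_zero, ← hloe]

/-- The lifts of the root group at the line. -/
theorem line_lift (hfree : Free hF P H) (hH : H ≤ det1 F q (2 + 2))
    (hW : ∀ w, w ∈ Wh hF P H ↔ ∃ k : F, w = k • V.a) (hB : V.Bor hF ≤ Kh hF P H) {c : F} (hc : c ∈ skew hF) :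
    ∃ δ ∈ skew hF, root hF (inc V.a : Fin (2 + 2) → F) c * root hF (vp P) δ ∈ H := by
  have hfix : (root hF V.a c).1.1 *ᵥ V.a = V.a := by
    rw [root_apply hF V.aa hc, V.aa, mul_zero, zero_smul, add_zero]
  obtain ⟨d, t, ht, hp⟩ :=
    (mem_Kh hF P H hH).1 (hB ⟨root_mem hF V.aa hc, 1, by rw [one_smul]; exact hfix⟩)
  have hX : h₂ d V.a = 0 := by
    by_contra hX
    obtain ⟨x, hx, hxZ⟩ := hfree
    obtain ⟨p, hp'⟩ := exists_sub_frob hF hx
    set l := σ (p / h₂ d V.a) with hl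
    obtain ⟨s, hs, hs'⟩ : l • V.a ∈ Wh hF P H := (hW _).2 ⟨l, rfl⟩
    obtain ⟨o1, m1⟩ := conj_wh hF P H ht hp hs hs'
    rw [mulVec_smul, hfix] at o1 m1
    have := uel_diff hF P H hs o1 hs' m1
    rw [add_sub_cancel_right, h_smul_right hF, h_smul_left, ← h_swap hF d V.a, hl, frob_frob hF,
      div_mul_cancel₀ _ hX, ← map_mul, div_mul_cancel₀ _ hX, hp'] at this
    exact hxZ this
  obtain ⟨k, rfl⟩ := V.perp hF hX
  obtain ⟨s, hs, hs'⟩ : k • V.a ∈ Wh hF P H := (hW _).2 ⟨k, rfl⟩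
  have hsk := uel_eq hF hs ht
  refine ⟨_, hsk, ?_⟩
  have := mul_mem hp (inv_mem hs')
  rw [uel_shift hF P hs ht, mul_assoc, mul_inv_cancel_right, emb_root hF P V.aa hc] at this
  exact this

set_option maxHeartbeats 400000 in
/-- A centred lift gives a full root point orthogonal to the point. -/
theorem root_exists (hq : 3 ≤ q) (hfree : Free hF P H) (hH : H ≤ det1 F q (2 + 2))
    (hW : ∀ w, w ∈ Wh hF P H ↔ ∃ k : F, w = k • V.a) (hB : V.Bor hF ≤ Kh hF P H)
    {g : G₂} {t τ : F} (ht : σ t = t) (hga : g.1.1 *ᵥ V.a = t • V.a) (hτ : τ ∈ skew hF)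
    (hl : emb hF P 1 g * root hF (vp P) τ ∈ H) (hcase : q = 3 ∧ t = -1 ∨ t * t ≠ 1) :
    ∃ r, Rt hF H r ∧ h₄ r (vp P) = 0 := by
  have hia : h₄ (inc V.a) (inc V.a) = 0 := by rw [h_inc hF, V.aa]
  have hia0 : (inc V.a : Fin (2 + 2) → F) ≠ 0 := fun e => V.ane hF (by rw [← pr_inc (s := 2) V.a, e, pr_zero])
  have hiv : h₄ (inc V.a) (vp P) = 0 := by rw [h_vp hF, lo_inc, h_zero_left hF]
  have hvv : (vp P : Fin (2 + 2) → F) ∈ Set.univ := trivial
  set T := emb hF P 1 g * root hF (vp P) τ with hT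
  have hTa : T.1.1 *ᵥ (inc V.a : Fin (2 + 2) → F) = t • inc V.a := by
    rw [hT, PsuMin.mul_apply, root_apply hF (vp_iso hF P) hτ, hiv, mul_zero, zero_smul, add_zero,
      emb_inc hF P, hga]
    exact ext2 (by rw [pr_smul, pr_inc, pr_inc]) (by rw [lo_smul, lo_inc, lo_inc, smul_zero])
  have hTv : T.1.1 *ᵥ (vp P : Fin (2 + 2) → F) = vp P := by
    rw [hT, PsuMin.mul_apply, root_apply hF (vp_iso hF P) hτ, vp_iso hF P, mul_zero, zero_smul, add_zero,
      emb_vp]
    simp
  rcases hcase with ⟨rfl3, rfl⟩ | ht2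
  · -- three elements
    have hZ : ∀ z ∈ Zh hF P H, z = 0 := by
      intro z hz
      by_contra hz0
      obtain ⟨x, hx, hxZ⟩ := hfree
      exact hxZ ⟨hx, full_three hF rfl3 H (vp_iso hF P) hz.1 hz0 hz.2 x hx⟩
    have h2 : (2 : F) ≠ 0 := by
      intro e
      have hc2 : ringChar F = 2 := CharP.ringChar_of_prime_eq_zero Nat.prime_two (by exact_mod_cast e)
      have := FiniteField.even_card_of_char_two hc2
      rw [hF, rfl3] at this
      norm_num at this
    have hτ' : Ok hF (0 : Fin 2 → F) τ := by unfold Ok; rw [h_zero_left hF, zero_add]; exact hτ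
    have hl' : emb hF P 1 g * uel hF P 0 τ ∈ H := by rw [uel_zero hF P hτ]; exact hl
    have hzero : ∀ l : F, Ok hF (l • V.a) 0 ∧ uel hF P (l • V.a) 0 ∈ H := by
      intro l
      obtain ⟨s, hs, hs'⟩ : l • V.a ∈ Wh hF P H := (hW _).2 ⟨l, rfl⟩
      obtain ⟨o1, m1⟩ := conj_wh hF P H hτ' hl' hs hs'
      rw [h_zero_left hF, h_zero_right hF, sub_zero, zero_add, mulVec_smul, hga, smul_smul, mul_neg_one,
        neg_smul] at o1 m1
      have m2 := mul_mem m1 hs'
      rw [uel_mul hF P o1 hs, neg_add_cancel, h_neg_right hF, h_smul_left, h_smul_right hF, V.aa, mul_zero,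
        mul_zero, neg_zero, sub_zero] at m2
      have hss : s + σ s = 0 := by
        unfold Ok at hs
        rw [h_smul_left, h_smul_right hF, V.aa] at hs
        linear_combination hs
      have h2s : s + s ∈ skew hF := add_mem ((mem_skew hF).2 hss) ((mem_skew hF).2 hss)
      rw [uel_zero hF P h2s] at m2
      have := hZ _ ⟨h2s, m2⟩
      have hs0 : s = 0 := by
        rw [← two_mul] at this
        exact (mul_eq_zero.1 this).resolve_left h2
      subst hs0
      exact ⟨hs, hs'⟩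
    obtain ⟨c, hc0, hc⟩ := exists_skew hF
    obtain ⟨δ, hδ, hmem⟩ := line_lift hF P H V hfree hH hW hB hc
    obtain ⟨lam, hlam⟩ := exists_norm_eq hF (c := δ / c) (by
      rw [map_div₀, skew_neg hF hδ, skew_neg hF hc, neg_div_neg_eq])
    obtain ⟨o, m⟩ := hzero (c * σ lam)
    have hyy : h₄ (inc V.a + lam • vp P) (inc V.a + lam • vp P) = 0 := by
      simp only [h_add_left, h_add_right hF, h_smul_left, h_smul_right hF, hia, hiv, perp_symm hF hiv,
        vp_iso hF P, mul_zero, add_zero]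
    have key : root hF (inc V.a + lam • vp P : Fin (2 + 2) → F) c =
        root hF (inc V.a) c * root hF (vp P) δ * uel hF P ((c * σ lam) • V.a) 0 := by
      refine gu_ext fun x => ?_
      rw [PsuMin.mul_apply, PsuMin.mul_apply, root_apply hF hyy hc, uel_apply hF P o,
        root_apply hF (vp_iso hF P) hδ, root_apply hF hia hc]
      have e1 : (inc ((c * σ lam) • V.a) : Fin (2 + 2) → F) = (c * σ lam) • inc V.a :=
        ext2 (by rw [pr_smul, pr_inc, pr_inc]) (by rw [lo_smul, lo_inc, lo_inc, smul_zero])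
      have e2 : h₄ x (inc V.a) = h₂ (pr x) V.a := by rw [h_split, pr_inc, lo_inc, h_zero_right hF, add_zero]
      have hsc : σ (c * σ lam) = -c * lam := by rw [map_mul, skew_neg hF hc, frob_frob hF]
      have hd : δ = c * (lam * σ lam) := by rw [hlam, mul_div_cancel₀ _ hc0]
      simp only [e1, e2, h_add_left, h_add_right hF, h_sub_left, h_smul_left, h_smul_right hF, hia, hiv,
        perp_symm hF hiv, vp_iso hF P, h_vp hF P (inc V.a), mul_zero, zero_mul, add_zero, zero_add, sub_zero,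
        zero_smul, hsc, hd, lo_inc, h_zero_left hF]
      match_scalars <;> ring
    refine ⟨_, ⟨fun e => hia0 ?_, hyy, full_three hF rfl3 H hyy hc hc0 (key ▸ mul_mem hmem m)⟩, ?_⟩
    · have e1 := congrArg pr e
      rw [pr_add, pr_smul, pr_top, smul_zero, add_zero, pr_inc] at e1
      exact absurd e1 (V.ane hF)
    · rw [h_add_left, h_smul_left, hiv, vp_iso hF P, mul_zero, add_zero]
  · refine ⟨inc V.a, ⟨hia0, hia, fun c hc => ?_⟩, hiv⟩
    have ht0 : t * t - 1 ≠ 0 := sub_ne_zero.2 ht2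
    have hfx : σ (t * t) = t * t := by rw [map_mul, ht]
    set c' := c / (t * t - 1) with hc'
    have hcs : c' ∈ skew hF := by
      rw [hc', div_eq_mul_inv]; exact skew_mul_fix hF hc (by rw [map_inv₀, map_sub, map_one, hfx])
    obtain ⟨δ, hδ, hm⟩ := line_lift hF P H V hfree hH hW hB hcs
    have h1 := mul_mem (mul_mem hl hm) (inv_mem hl)
    have e : T * (root hF (inc V.a : Fin (2 + 2) → F) c' * root hF (vp P) δ) * T⁻¹ =
        (T * root hF (inc V.a : Fin (2 + 2) → F) c' * T⁻¹) * (T * root hF (vp P) δ * T⁻¹) := by group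
    rw [e, root_conj hF T hia hcs, root_conj hF T (vp_iso hF P) hδ, hTa, hTv, root_smul hF hia hcs, ht] at h1
    have h2 := mul_mem h1 (inv_mem hm)
    rw [_root_.mul_inv_rev, ← mul_assoc, mul_inv_cancel_right, root_inv hF hia hcs,
      root_mul hF hia (skew_mul_fix hF hcs hfx) (neg_mem hcs)] at h2
    convert h2 using 2
    rw [show c' * (t * t) + -c' = c' * (t * t - 1) by ring, hc', div_mul_cancel₀ _ ht0]

include hF in
/-- The case of a line. -/
theorem typeL_out (hq : 3 ≤ q) (hH : H ≤ det1 F q (2 + 2)) (hfree : Free hF P H) (hL : TypeL hF P H) :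
    (q + 1) * q ^ 3 ≤ mP P H ∧ (∃ r, Rt hF H r ∧ h₄ r (vp P) = 0) ∧
      ∃ x2 : Fin (2 + 2) → F, ∀ r, Rt hF H r → h₄ r (vp P) = 0 →
        r ∈ Submodule.span F {(vp P : Fin (2 + 2) → F), x2} := by
  obtain ⟨V, hW, hB, hm⟩ := hL
  refine ⟨hm, ?_, inc V.a, fun r hr hrp => roots_in_plane hF P H V hW hH hr hrp⟩
  obtain ⟨t, hts, ht0, ht1, hcase⟩ : ∃ t : F, σ t = t ∧ t ≠ 0 ∧ t ≠ 1 ∧ (q = 3 ∧ t = -1 ∨ t * t ≠ 1) := by
    by_cases h3 : q = 3
    · refine ⟨-1, by rw [map_neg, map_one], neg_ne_zero.2 one_ne_zero, fun e => ?_, Or.inl ⟨h3, rfl⟩⟩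
      have h2 : (2 : F) = 0 := by linear_combination -e
      have hc2 : ringChar F = 2 := CharP.ringChar_of_prime_eq_zero Nat.prime_two (by exact_mod_cast h2)
      have := FiniteField.even_card_of_char_two hc2
      rw [hF, h3] at this
      norm_num at this
    · by_contra hno
      push Not at hno
      have hsub : {x : F | σ x = x} ⊆ ({0, 1, -1} : Set F) := fun x hx => by
        by_cases h0 : x = 0
        · exact Or.inl h0
        by_cases h1 : x = 1
        · exact Or.inr (Or.inl h1)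
        rcases mul_self_eq_one_iff.1 ((hno x hx h0 h1).2) with h | h
        · exact Or.inr (Or.inl h)
        · exact Or.inr (Or.inr h)
      have := (Set.ncard_le_ncard hsub (Set.toFinite _)).trans
        ((Set.ncard_insert_le _ _).trans (Nat.add_le_add_right (Set.ncard_insert_le _ _) 1))
      rw [← Nat.card_coe_set_eq, show Nat.card {x : F | σ x = x} = Nat.card {x : F // σ x = x} from rfl,
        card_fix hF, Set.ncard_singleton] at this
      omega
  obtain ⟨g, hg, hga, hgb⟩ := V.exists_torus hF hts ht0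
  have hgK : g ∈ Kh hF P H := hB ⟨hg, t, hga⟩
  obtain ⟨b, r, hbr, τ, hτ, hl⟩ := exists_moved hF P H hH hgK (fun x hx => by
    rw [V.dec hF x, mulVec_add, mulVec_smul, mulVec_smul, hga, hgb, smul_smul, smul_smul] at hx
    have ea := congrArg (fun z => h₂ z V.b) hx
    have eb := congrArg (fun z => h₂ z V.a) hx
    simp only [h_add_left, h_smul_left, V.aa, V.ab, V.bb, V.ba, mul_zero, add_zero, zero_add] at ea eb
    have hx1 : h₂ x V.b = 0 := by
      have h1 : h₂ x V.b / V.c * ((t - 1) * V.c) = 0 := by linear_combination ea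
      rcases mul_eq_zero.1 h1 with h | h
      · exact (div_eq_zero_iff.1 h).resolve_right V.c0
      · exact absurd h (mul_ne_zero (sub_ne_zero.2 ht1) V.c0)
    have hx2 : h₂ x V.a = 0 := by
      have h1 : h₂ x V.a / V.c * ((t⁻¹ - 1) * V.c) = 0 := by linear_combination eb
      rcases mul_eq_zero.1 h1 with h | h
      · exact (div_eq_zero_iff.1 h).resolve_right V.c0
      · exact absurd h (mul_ne_zero (sub_ne_zero.2 (fun e => ht1 (inv_eq_one.1 e))) V.c0)
    rw [V.dec hF x, hx1, hx2]; simp)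
  set u := uel hF P b r
  set H' := H.comap (MulAut.conj u).toMonoidHom
  have hH' : H' ≤ det1 F q (2 + 2) := conj_le hH u
  have hfree' : Free hF P H' := by
    obtain ⟨x, hx, hxZ⟩ := hfree
    exact ⟨x, hx, by rwa [zh_moved hF P H hbr]⟩
  obtain ⟨r', hr', hrp⟩ := root_exists hF P H' V hq hfree' hH'
    (by rw [wh_moved hF P H hbr]; exact hW)
    (by rw [Kh, rg_moved hF P H hH hbr]; exact hB) hts hga hτ hl hcase
  refine ⟨u.1.1 *ᵥ r', ⟨mulVec_ne_zero u hr'.1, by rw [gu_h u, hr'.2.1], fun c hc => ?_⟩, ?_⟩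
  · rw [← root_conj hF u hr'.2.1 hc]
    exact (mem_conj H u _).1 (hr'.2.2 c hc)
  · have := gu_h u r' (vp P : Fin (2 + 2) → F)
    rw [uel_vp hF P hbr] at this
    exact this.trans hrp

end CfsgLib.PsuFour
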