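import Mathlib
import Cfsg.Agent.Lib.PsuFour.TypeL

/-! Isotropic points and their stabilisers. -/

set_option autoImplicit false

namespace CfsgLib.PsuFour

open Matrix CfsgLib.UnitaryTransvection CfsgLib.PsuMin CfsgLib.HermCount Module

variable {F : Type*} [Field F] [Fintype F] {q n : ℕ} (hF : Fintype.card F = q ^ 2)

local notation "σ" => frob hF
local notation "G" => Cfsg.GU n F q
local notation "h" => Cfsg.hermForm n F q

variable (F q n) in
/-- The isotropic points. -/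
def Pt : Type _ := {L : Submodule F (Fin n → F) // ∃ x ∈ Isot F q n, L = Submodule.span F {x}}

instance : Finite (Pt F q n) :=
  Finite.of_injective (fun L : Pt F q n => (L.1 : Set (Fin n → F))) fun _ _ e => Subtype.ext (SetLike.coe_injective e)

/-- The point of a vector. -/
def ptOf {x : Fin n → F} (hx : x ∈ Isot F q n) : Pt F q n := ⟨Submodule.span F {x}, x, hx, rfl⟩

theorem ptOf_eq {x y : Fin n → F} (hx : x ∈ Isot F q n) (hy : y ∈ Isot F q n) :
    ptOf hx = ptOf hy ↔ ∃ k : F, k ≠ 0 ∧ x = k • y := by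
  constructor
  · intro e
    have e' : Submodule.span F {x} = Submodule.span F {y} := congrArg Subtype.val e
    obtain ⟨k, hk⟩ := Submodule.mem_span_singleton.1 (e' ▸ Submodule.mem_span_singleton_self x)
    exact ⟨k, fun e0 => hx.1 (by rw [← hk, e0, zero_smul]), hk.symm⟩
  · rintro ⟨k, hk, rfl⟩
    exact Subtype.ext (Submodule.span_singleton_smul_eq hk.isUnit y)

include hF in
theorem smul_mem_isot {x : Fin n → F} (hx : x ∈ Isot F q n) {k : F} (hk : k ≠ 0) : k • x ∈ Isot F q n :=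
  ⟨smul_ne_zero hk hx.1, smul_iso hF hx.2 k⟩

theorem gu_isot (g : G) {x : Fin n → F} (hx : x ∈ Isot F q n) : g.1.1 *ᵥ x ∈ Isot F q n :=
  ⟨mulVec_ne_zero g hx.1, by rw [gu_h g, hx.2]⟩

theorem map_span_pair (g : G) (s : Set (Fin n → F)) :
    (Submodule.span F s).map g.1.1.mulVecLin = Submodule.span F ((fun x => g.1.1 *ᵥ x) '' s) := by
  rw [Submodule.map_span]; rfl

noncomputable instance ptAction : MulAction (Cfsg.GU n F q) (Pt F q n) where
  smul g L := ⟨L.1.map g.1.1.mulVecLin, by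
    obtain ⟨x, hx, e⟩ := L.2
    exact ⟨g.1.1 *ᵥ x, gu_isot g hx, by rw [e, map_span_pair, Set.image_singleton]⟩⟩
  one_smul L := Subtype.ext (by
    show L.1.map (1 : G).1.1.mulVecLin = L.1
    rw [show (1 : G).1.1.mulVecLin = LinearMap.id from LinearMap.ext fun x => PsuMin.one_apply x, Submodule.map_id])
  mul_smul g g' L := Subtype.ext (by
    show L.1.map (g * g').1.1.mulVecLin = (L.1.map g'.1.1.mulVecLin).map g.1.1.mulVecLin
    rw [← Submodule.map_comp]
    congr 1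
    exact LinearMap.ext fun x => PsuMin.mul_apply g g' x)

theorem smul_ptOf (g : G) {x : Fin n → F} (hx : x ∈ Isot F q n) : g • ptOf hx = ptOf (gu_isot g hx) :=
  Subtype.ext (by
    show (Submodule.span F {x}).map g.1.1.mulVecLin = _
    rw [map_span_pair, Set.image_singleton]; rfl)

theorem pt_surj (L : Pt F q n) : ∃ x, ∃ hx : x ∈ Isot F q n, L = ptOf hx := by
  obtain ⟨x, hx, e⟩ := L.2
  exact ⟨x, hx, Subtype.ext e⟩

include hF in
/-- The number of points. -/
theorem card_pt : Nat.card (Pt F q n) * (q ^ 2 - 1) = L0 F q n := by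
  classical
  choose rep hrep hrep' using fun L : Pt F q n => pt_surj L
  rw [show q ^ 2 - 1 = Nat.card Fˣ by rw [Nat.card_units, Nat.card_eq_fintype_card, hF], ← Nat.card_prod]
  refine (Nat.card_congr (Equiv.ofBijective
    (fun p : Pt F q n × Fˣ => (⟨(p.2 : F) • rep p.1, smul_mem_isot hF (hrep p.1) p.2.ne_zero⟩ : Isot F q n))
    ⟨?_, ?_⟩)).trans (Nat.card_coe_set_eq _)
  · rintro ⟨L, u⟩ ⟨L', u'⟩ e
    have e' : (u : F) • rep L = (u' : F) • rep L' := congrArg Subtype.val e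
    have hL : L = L' := by
      rw [hrep' L, hrep' L', ptOf_eq]
      refine ⟨(u : F)⁻¹ * u', mul_ne_zero (inv_ne_zero u.ne_zero) u'.ne_zero, ?_⟩
      rw [mul_smul, ← e', inv_smul_smul₀ u.ne_zero]
    subst hL
    exact Prod.ext rfl (Units.ext (smul_left_injective F (hrep L).1 e'))
  · rintro ⟨x, hx⟩
    obtain ⟨k, hk, hk'⟩ := (ptOf_eq hx (hrep (ptOf hx))).1 (hrep' (ptOf hx))
    exact ⟨(ptOf hx, Units.mk0 k hk), Subtype.ext hk'.symm⟩

variable (H : Subgroup (Cfsg.GU n F q))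

/-- Some nontrivial root element at the vector lies in the group. -/
def HasTr (x : Fin n → F) : Prop := ∃ c ∈ skew hF, c ≠ 0 ∧ root hF x c ∈ H

theorem hasTr_smul {x : Fin n → F} (hx : x ∈ Isot F q n) {k : F} (hk : k ≠ 0) (ht : HasTr hF H x) :
    HasTr hF H (k • x) := by
  obtain ⟨c, hc, hc0, hm⟩ := ht
  have hks : σ k ≠ 0 := fun e => hk (eq_zero_of_frob hF e)
  refine ⟨c * (k * σ k)⁻¹, skew_mul_fix hF hc (by rw [map_inv₀, map_mul, frob_frob hF, mul_comm (σ k)]),
    mul_ne_zero hc0 (inv_ne_zero (mul_ne_zero hk hks)), ?_⟩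
  rw [root_smul hF hx.2 (skew_mul_fix hF hc (by rw [map_inv₀, map_mul, frob_frob hF, mul_comm (σ k)])),
    inv_mul_cancel_right₀ (mul_ne_zero hk hks)]
  exact hm

/-- Having a root element is constant on orbits. -/
theorem hasTr_orbit {x y : Fin n → F} (hx : x ∈ Isot F q n) (hy : y ∈ Isot F q n)
    (hm : ptOf hy ∈ MulAction.orbit H (ptOf hx)) (ht : HasTr hF H x) : HasTr hF H y := by
  obtain ⟨⟨g, hg⟩, e⟩ := hm
  change g • ptOf hx = ptOf hy at e
  rw [smul_ptOf] at e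
  obtain ⟨k, hk, hk'⟩ := (ptOf_eq hy (gu_isot g hx)).1 e.symm
  rw [hk']
  refine hasTr_smul hF H (gu_isot g hx) hk ?_
  obtain ⟨c, hc, hc0, hm⟩ := ht
  exact ⟨c, hc, hc0, by rw [← root_conj hF g hx.2 hc]; exact mul_mem (mul_mem hg hm) (inv_mem hg)⟩

/-- Full root points form a union of orbits. -/
theorem rt_orbit {x y : Fin n → F} (hx : x ∈ Isot F q n) (hy : y ∈ Isot F q n)
    (hm : ptOf hy ∈ MulAction.orbit H (ptOf hx)) (hr : Rt hF H x) : Rt hF H y := by
  obtain ⟨⟨g, hg⟩, e⟩ := hm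
  change g • ptOf hx = ptOf hy at e
  rw [smul_ptOf] at e
  obtain ⟨k, hk, hk'⟩ := (ptOf_eq hy (gu_isot g hx)).1 e.symm
  rw [hk']
  exact rt_smul hF (rt_map hF hr hg) hk

include hF in
theorem pt_trans (hn : 3 ≤ n) (a b : Pt F q n) : b ∈ MulAction.orbit (det1 F q n) a := by
  obtain ⟨x, hx, rfl⟩ := pt_surj a
  obtain ⟨y, hy, rfl⟩ := pt_surj b
  obtain ⟨g, hg, e⟩ := trans_level hF hn hx.1 hy.1 (hx.2.trans hy.2.symm)
  refine ⟨⟨g, hg⟩, ?_⟩
  show g • ptOf hx = ptOf hy
  rw [smul_ptOf]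
  exact Subtype.ext (congrArg (fun z => Submodule.span F {z}) e)

end CfsgLib.PsuFour
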