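import Mathlib
import Cfsg.Agent.Lib.PsuFour.Points
import Cfsg.Agent.Lib.PsuMin.Main

/-! The index bound for proper subgroups in dimension four. -/

set_option autoImplicit false

namespace CfsgLib.PsuFour

open Matrix CfsgLib.UnitaryTransvection CfsgLib.PsuMin CfsgLib.HermCount Module

variable {F : Type*} [Field F] [Fintype F] {q : ℕ} (hF : Fintype.card F = q ^ 2)

local notation "σ" => frob hF
local notation "h₂" => Cfsg.hermForm 2 F q
local notation "h₄" => Cfsg.hermForm (2 + 2) F q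
local notation "G₄" => Cfsg.GU (2 + 2) F q

include hF in
theorem card_pts : Nat.card (Pt F q (2 + 2)) = (q ^ 2 + 1) * (q ^ 3 + 1) := by
  have hq := two_le_q hF
  have h := card_pt hF (n := 2 + 2)
  rw [L0_even hF (by decide : Even (2 + 2)) (by norm_num)] at h
  have hq2 : 2 ^ 2 ≤ q ^ 2 := Nat.pow_le_pow_left hq 2
  refine Nat.eq_of_mul_eq_mul_right (show 0 < q ^ 2 - 1 by omega) (h.trans ?_)
  show (q ^ 4 - 1) * (q ^ 3 + 1) = _
  rw [show q ^ 4 - 1 = (q ^ 2 + 1) * (q ^ 2 - 1) by rw [← Nat.sq_sub_sq, ← pow_mul, one_pow]]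
  ring

variable (H : Subgroup (Cfsg.GU (2 + 2) F q))

/-- The index at a point. -/
noncomputable def mX {x : Fin (2 + 2) → F} (hx : x ∈ Isot F q (2 + 2)) : ℕ :=
  H.relIndex (MulAction.stabilizer G₄ (ptOf hx) ⊓ det1 F q (2 + 2))

theorem mX_le {x : Fin (2 + 2) → F} (hx : x ∈ Isot F q (2 + 2)) : mX H hx ≤ H.relIndex (det1 F q (2 + 2)) :=
  OmegaMin.relIndex_mono H inf_le_right

include hF in
/-- Two orbits add. -/
theorem mX_add (hH : H ≤ det1 F q (2 + 2)) {x y : Fin (2 + 2) → F} (hx : x ∈ Isot F q (2 + 2))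
    (hy : y ∈ Isot F q (2 + 2)) (hne : ptOf hy ∉ MulAction.orbit H (ptOf hx)) :
    mX H hx + mX H hy ≤ H.relIndex (det1 F q (2 + 2)) :=
  OmegaMin.two_orbits H _ hH (ptOf hx) (ptOf hy) (fun z => pt_trans hF (by norm_num) _ z) hne

variable (P : HPair F q)

include hF in
theorem vp_isot : (vp P : Fin (2 + 2) → F) ∈ Isot F q (2 + 2) := ⟨vp_ne hF P, vp_iso hF P⟩

include hF in
/-- The index at a point is that of a conjugate at the base point. -/
theorem mX_conj {g : G₄} (hg : g ∈ det1 F q (2 + 2)) {x : Fin (2 + 2) → F} (hx : x ∈ Isot F q (2 + 2))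
    (hgx : g.1.1 *ᵥ vp P = x) : mX H hx = mP P (H.comap (MulAut.conj g).toMonoidHom) := by
  rw [mX, mP, Subgroup.relIndex_comap]
  congr 1
  have hpt : g • ptOf (vp_isot hF P) = ptOf hx := by
    rw [smul_ptOf]; exact Subtype.ext (congrArg (fun z => Submodule.span F {z}) hgx)
  ext k
  simp only [Subgroup.mem_map, MulEquiv.coe_toMonoidHom, MulAut.conj_apply, Subgroup.mem_inf,
    MulAction.mem_stabilizer_iff]
  constructor
  · rintro ⟨h1, h2⟩
    refine ⟨g⁻¹ * k * g, ⟨?_, ?_⟩, by group⟩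
    · exact mul_mem (mul_mem (inv_mem hg) h2) hg
    · have : (g⁻¹ * k * g) • ptOf (vp_isot hF P) = ptOf (vp_isot hF P) := by
        rw [mul_smul, mul_smul, hpt, h1, ← hpt, inv_smul_smul]
      rw [smul_ptOf] at this
      obtain ⟨r, -, hr⟩ := (ptOf_eq _ _).1 this
      exact ⟨r, hr⟩
  · rintro ⟨y, ⟨hy1, r, hr⟩, rfl⟩
    refine ⟨?_, mul_mem (mul_mem hg hy1) (inv_mem hg)⟩
    have hy' : y • ptOf (vp_isot hF P) = ptOf (vp_isot hF P) := by
      rw [smul_ptOf, ptOf_eq]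
      exact ⟨r, fun e => mulVec_ne_zero y (vp_ne hF P) (by rw [hr, e, zero_smul]), hr⟩
    rw [← hpt, mul_smul, mul_smul, inv_smul_smul, hy']

set_option maxHeartbeats 400000 in
include hF in
/-- The three cases at a free point. -/
theorem point_cases (hq : 3 ≤ q) (hH : H ≤ det1 F q (2 + 2)) {x : Fin (2 + 2) → F}
    (hx : x ∈ Isot F q (2 + 2)) (hfree : ¬ Rt hF H x) :
    tgt q ≤ mX H hx ∨
      (q ^ 3 ≤ mX H hx ∧ HasTr hF H x ∧ ∃ y ∈ Isot F q (2 + 2), ¬ HasTr hF H y) ∨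
      ((q + 1) * q ^ 3 ≤ mX H hx ∧ (∃ r, Rt hF H r ∧ h₄ r x = 0) ∧
        ∃ x2, ∀ r, Rt hF H r → h₄ r x = 0 → r ∈ Submodule.span F {x, x2}) := by
  obtain ⟨P⟩ := exists_hpair hF
  obtain ⟨g, hg, hgx⟩ := trans_level hF (show 3 ≤ 2 + 2 by norm_num) (vp_ne hF P) hx.1
    ((vp_iso hF P).trans hx.2.symm)
  rw [mX_conj hF H P hg hx hgx]
  set H1 := H.comap (MulAut.conj g).toMonoidHom
  have hH1 : H1 ≤ det1 F q (2 + 2) := conj_le hH g
  have htr : ∀ (z : Fin (2 + 2) → F) (c : F), h₄ z z = 0 → c ∈ skew hF →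
      (root hF z c ∈ H1 ↔ root hF (g.1.1 *ᵥ z) c ∈ H) := fun z c hz hc => by
    rw [mem_conj, root_conj hF g hz hc]
  have hback : ∀ r, Rt hF H r → Rt hF H1 (g⁻¹.1.1 *ᵥ r) := fun r hr =>
    ⟨mulVec_ne_zero _ hr.1, by rw [gu_h g⁻¹, hr.2.1], fun c hc => by
      rw [htr _ _ (by rw [gu_h g⁻¹, hr.2.1]) hc, apply_inv_apply]; exact hr.2.2 c hc⟩
  have hfr : Free hF P H1 := by
    by_contra hno
    refine hfree ⟨hx.1, hx.2, fun c hc => ?_⟩
    have : c ∈ Zh hF P H1 := by_contra fun h => hno ⟨c, hc, h⟩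
    rw [← hgx, ← htr _ _ (vp_iso hF P) hc]
    exact this.2
  rcases cases_at hF P H1 hq hH1 hfr with h | h | h
  · exact Or.inl h
  · obtain ⟨hm, ⟨r, hr, hrp⟩, x2, hx2⟩ := typeL_out hF P H1 hq hH1 hfr h
    refine Or.inr (Or.inr ⟨hm, ⟨g.1.1 *ᵥ r, ⟨mulVec_ne_zero g hr.1, by rw [gu_h g, hr.2.1], fun c hc =>
      (htr _ _ hr.2.1 hc).1 (hr.2.2 c hc)⟩, by rw [← hgx, gu_h g, hrp]⟩, g.1.1 *ᵥ x2, fun r' hr' hrx => ?_⟩)
    have := hx2 _ (hback r' hr') (by rw [← gu_h g, apply_inv_apply, hgx, hrx])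
    obtain ⟨a, b, e⟩ := Submodule.mem_span_pair.1 this
    refine Submodule.mem_span_pair.2 ⟨a, b, ?_⟩
    rw [← apply_inv_apply g r', ← e, mulVec_add, mulVec_smul, mulVec_smul, hgx]
  · rcases typeN_out hF P H1 hq hH1 hfr h with h | ⟨hm, ⟨z, hz, hz0⟩, y, hy, hy'⟩
    · exact Or.inl h
    refine Or.inr (Or.inl ⟨hm, ⟨z, hz.1, hz0, ?_⟩, g.1.1 *ᵥ y, gu_isot g hy, ?_⟩)
    · rw [← hgx, ← htr _ _ (vp_iso hF P) hz.1]; exact hz.2
    · rintro ⟨c, hc, hc0, hm⟩
      exact hc0 (hy' c hc ((htr _ _ hy.2 hc).2 hm))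

include hF in
/-- A totally isotropic line is its own orthogonal. -/
theorem line_perp_line {g : G₄} {a : Fin 2 → F} (ha : a ∈ Isot F q 2) {r : Fin (2 + 2) → F}
    (hr : h₄ r r = 0) (h1 : h₄ r (g.1.1 *ᵥ vp P) = 0) (h2 : h₄ r (g.1.1 *ᵥ inc a) = 0) :
    ∃ k l : F, r = k • (g.1.1 *ᵥ vp P) + l • (g.1.1 *ᵥ inc a) := by
  set r' := g⁻¹.1.1 *ᵥ r
  have e1 : h₂ (lo r') P.v = 0 := by
    rw [← h_vp hF, ← gu_h g, apply_inv_apply, h1]
  have e2 : h₂ (pr r') a = 0 := by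
    have : h₄ r' (inc a) = 0 := by rw [← gu_h g, apply_inv_apply, h2]
    rwa [h_split, pr_inc, lo_inc, h_zero_right hF, add_zero] at this
  obtain ⟨V, rfl⟩ := exists_isoPair hF ha.1 ha.2
  obtain ⟨l, hl⟩ := V.perp hF e2
  have hloe := P.dec hF (lo r')
  rw [e1, zero_smul, add_zero] at hloe
  refine ⟨h₂ (lo r') P.w, l, ?_⟩
  have : r' = h₂ (lo r') P.w • vp P + l • inc V.a := ext2
    (by rw [pr_add, pr_smul, pr_smul, pr_top, pr_inc, smul_zero, zero_add, hl])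
    (by rw [lo_add, lo_smul, lo_smul, lo_top, lo_inc, smul_zero, add_zero, ← hloe])
  rw [← apply_inv_apply g r]
  show g.1.1 *ᵥ r' = _
  conv_lhs => rw [this]
  rw [mulVec_add, mulVec_smul, mulVec_smul]

set_option maxHeartbeats 800000 in
include hF in
/-- The bound for a proper subgroup. -/
theorem bound_three (hq : 3 ≤ q) (hH : H ≤ det1 F q (2 + 2)) (hprop : ¬ det1 F q (2 + 2) ≤ H) :
    tgt q ≤ H.relIndex (det1 F q (2 + 2)) := by
  classical
  set n := H.relIndex (det1 F q (2 + 2))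
  obtain ⟨x0, hx0, hx0R⟩ : ∃ x, x ∈ Isot F q (2 + 2) ∧ ¬ Rt hF H x := by
    by_contra hno
    push Not at hno
    exact hprop (eq_det1_of_roots hF (by norm_num) (fun e => by omega)
      fun x hx hxx c hc => (hno x ⟨hx, hxx⟩).2.2 c hc)
  by_cases hI : ∃ x, ∃ hx : x ∈ Isot F q (2 + 2), tgt q ≤ mX H hx
  · obtain ⟨x, hx, h⟩ := hI
    exact h.trans (mX_le H hx)
  push Not at hI
  have hL : ∀ {y} (hy : y ∈ Isot F q (2 + 2)), ¬ HasTr hF H y → ¬ Rt hF H y := fun {y} hy h hR => by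
    obtain ⟨c, hc0, hc⟩ := exists_skew hF
    exact h ⟨c, hc, hc0, hR.2.2 c hc⟩
  by_cases hN : ∃ x, ∃ hx : x ∈ Isot F q (2 + 2), q ^ 3 ≤ mX H hx ∧ HasTr hF H x ∧
      ∃ y ∈ Isot F q (2 + 2), ¬ HasTr hF H y
  · obtain ⟨x, hx, hm, ht, y, hy, hny⟩ := hN
    have hym : (q + 1) * q ^ 3 ≤ mX H hy := by
      rcases point_cases hF H hq hH hy (hL hy hny) with h | ⟨-, h, -⟩ | ⟨h, -⟩
      · exact absurd h (not_le.2 (hI y hy))
      · exact absurd h hny
      · exact h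
    refine (tgt_le_cube (k := q + 2) (by omega) le_rfl ?_).trans
      (mX_add hF H hH hx hy fun h => hny (hasTr_orbit hF H hx hy h ht))
    calc (q + 2) * q ^ 3 = q ^ 3 + (q + 1) * q ^ 3 := by ring
      _ ≤ _ := Nat.add_le_add hm hym
  have hall : ∀ x (hx : x ∈ Isot F q (2 + 2)), ¬ Rt hF H x →
      (q + 1) * q ^ 3 ≤ mX H hx ∧ (∃ r, Rt hF H r ∧ h₄ r x = 0) ∧
        ∃ x2, ∀ r, Rt hF H r → h₄ r x = 0 → r ∈ Submodule.span F {x, x2} := by
    intro x hx hxR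
    rcases point_cases hF H hq hH hx hxR with h | h | h
    · exact absurd h (not_le.2 (hI x hx))
    · exact absurd ⟨x, hx, h⟩ hN
    · exact h
  obtain ⟨hm0, ⟨r0, hr0, hr0x⟩, x2, hx2⟩ := hall x0 hx0 hx0R
  by_cases hone : ∃ y, ∃ hy : y ∈ Isot F q (2 + 2), ¬ Rt hF H y ∧ ptOf hy ∉ MulAction.orbit H (ptOf hx0)
  · obtain ⟨y, hy, hyR, hyo⟩ := hone
    refine (tgt_le_cube (k := 2 * (q + 1)) (by omega) (by omega) ?_).trans (mX_add hF H hH hx0 hy hyo)
    calc 2 * (q + 1) * q ^ 3 = (q + 1) * q ^ 3 + (q + 1) * q ^ 3 := by ring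
      _ ≤ _ := Nat.add_le_add hm0 (hall y hy hyR).1
  -- a line through `x0` without full root points
  obtain ⟨P⟩ := exists_hpair hF
  obtain ⟨g, hg, hgx⟩ := trans_level hF (show 3 ≤ 2 + 2 by norm_num) (vp_ne hF P) hx0.1
    ((vp_iso hF P).trans hx0.2.symm)
  obtain ⟨e, he0, he⟩ := UnitarySimple.exists_isotropic hF (n := 2) le_rfl
  obtain ⟨V, hV⟩ := exists_isoPair hF he0 he
  have hplane : ∃ a ∈ Isot F q 2, g.1.1 *ᵥ inc a ∉ Submodule.span F {x0, x2} := by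
    by_contra hno
    push Not at hno
    obtain ⟨α, β, e1⟩ := Submodule.mem_span_pair.1 (hno V.a ⟨V.ane hF, V.aa⟩)
    obtain ⟨α', β', e2⟩ := Submodule.mem_span_pair.1 (hno V.b
      ⟨fun e => V.c0 (by rw [← V.ab, e, h_zero_right hF]), V.bb⟩)
    have hβ : β ≠ 0 := by
      intro e
      rw [e, zero_smul, add_zero, ← hgx, ← mulVec_smul] at e1
      have e3 := congrArg (fun z => pr (g⁻¹.1.1 *ᵥ z)) e1
      simp only [inv_apply_apply, pr_smul, pr_top, smul_zero, pr_inc] at e3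
      exact V.ane hF e3.symm
    have e4 : g.1.1 *ᵥ (β • inc V.b - β' • inc V.a) = (β * α' - β' * α) • x0 := by
      rw [mulVec_sub, mulVec_smul, mulVec_smul, ← e1, ← e2]
      module
    rw [← hgx, ← mulVec_smul] at e4
    have e5 := congrArg (fun z => h₂ (pr (g⁻¹.1.1 *ᵥ z)) V.a) e4
    have e6 : pr ((β • inc V.b - β' • inc V.a : Fin (2 + 2) → F)) = β • V.b - β' • V.a := by
      funext i
      have h1 := congrFun (pr_inc (s := 2) V.b) i
      have h2 := congrFun (pr_inc (s := 2) V.a) i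
      simp only [pr] at h1 h2 ⊢
      simp only [Pi.sub_apply, Pi.smul_apply, h1, h2]
    simp only [inv_apply_apply, e6, pr_smul, pr_top, smul_zero, h_zero_left hF, h_sub_left, h_smul_left, V.ba,
      V.aa, mul_zero, sub_zero] at e5
    exact mul_ne_zero hβ (neg_ne_zero.2 V.c0) e5
  obtain ⟨a, ha, hay⟩ := hplane
  set y0 := g.1.1 *ᵥ (inc a : Fin (2 + 2) → F)
  have hy00 : h₄ y0 y0 = 0 := by rw [gu_h g, h_inc hF, ha.2]
  have hxy : h₄ x0 y0 = 0 := by
    rw [← hgx, gu_h g, h_split, pr_top, lo_inc, h_zero_left hF, h_zero_right hF, add_zero]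
  let z : Option F → (Fin (2 + 2) → F) := fun i => i.elim x0 fun k => y0 + k • x0
  have hy0n : ∀ k : F, y0 ≠ k • x0 := fun k e => hay (by
    rw [e]; exact Submodule.smul_mem _ _ (Submodule.subset_span (Set.mem_insert _ _)))
  have hz : ∀ i, z i ∈ Isot F q (2 + 2) ∧ ¬ Rt hF H (z i) := by
    rintro (_ | k)
    · exact ⟨hx0, hx0R⟩
    refine ⟨⟨fun e => hy0n (-k) (by rw [neg_smul]; exact eq_neg_of_add_eq_zero_left e), ?_⟩, fun hR => hay ?_⟩
    · show h₄ (y0 + k • x0) (y0 + k • x0) = 0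
      simp only [h_add_left, h_add_right hF, h_smul_left, h_smul_right hF, hy00, hxy, perp_symm hF hxy, hx0.2,
        mul_zero, add_zero]
    · have hzx : h₄ (y0 + k • x0) x0 = 0 := by
        rw [h_add_left, h_smul_left, perp_symm hF hxy, hx0.2, mul_zero, add_zero]
      have := hx2 _ hR hzx
      have h' := Submodule.sub_mem _ this (Submodule.smul_mem _ k
        (Submodule.subset_span (Set.mem_insert x0 ({x2} : Set (Fin (2 + 2) → F)))))
      rwa [show z (some k) - k • x0 = y0 from add_sub_cancel_right y0 (k • x0)] at h'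
  choose r hr hrz using fun i => (hall (z i) (hz i).1 (hz i).2).2.1
  let R := {L : Pt F q (2 + 2) | ∃ w, ∃ hw : w ∈ Isot F q (2 + 2), Rt hF H w ∧ L = ptOf hw}
  have hR : q ^ 2 + 1 ≤ R.ncard := by
    have hO : Nat.card (Option F) = q ^ 2 + 1 := by rw [Nat.card_eq_fintype_card, Fintype.card_option, hF]
    rw [← hO, ← Nat.card_coe_set_eq]
    refine Nat.card_le_card_of_injective
      (fun i => (⟨ptOf (show r i ∈ Isot F q (2 + 2) from ⟨(hr i).1, (hr i).2.1⟩), r i, _, hr i, rfl⟩ : R)) ?_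
    intro i j e
    by_contra hne
    obtain ⟨l, hl, hl'⟩ := (ptOf_eq (show r i ∈ Isot F q (2 + 2) from ⟨(hr i).1, (hr i).2.1⟩)
      (show r j ∈ Isot F q (2 + 2) from ⟨(hr j).1, (hr j).2.1⟩)).1 (congrArg Subtype.val e)
    have h0i := hrz i
    have h0j := hrz j
    have h1j : h₄ (r i) (z j) = 0 := by rw [hl', h_smul_left, h0j, mul_zero]
    have hxy' : h₄ (r i) x0 = 0 ∧ h₄ (r i) y0 = 0 := by
      rcases i with _ | k <;> rcases j with _ | k'
      · exact absurd rfl hne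
      · refine ⟨h0i, ?_⟩
        change h₄ (r none) (y0 + k' • x0) = 0 at h1j
        change h₄ (r none) x0 = 0 at h0i
        rwa [h_add_right hF, h_smul_right hF, h0i, mul_zero, add_zero] at h1j
      · refine ⟨h1j, ?_⟩
        change h₄ (r (some k)) (y0 + k • x0) = 0 at h0i
        change h₄ (r (some k)) x0 = 0 at h1j
        rwa [h_add_right hF, h_smul_right hF, h1j, mul_zero, add_zero] at h0i
      · change h₄ (r (some k)) (y0 + k' • x0) = 0 at h1j
        change h₄ (r (some k)) (y0 + k • x0) = 0 at h0i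
        rw [h_add_right hF, h_smul_right hF] at h0i h1j
        have hk : k - k' ≠ 0 := sub_ne_zero.2 fun e => hne (by rw [e])
        have hx : h₄ (r (some k)) x0 = 0 := by
          have : σ (k - k') * h₄ (r (some k)) x0 = 0 := by rw [map_sub]; linear_combination h0i - h1j
          exact (mul_eq_zero.1 this).resolve_left fun e => hk (eq_zero_of_frob hF e)
        exact ⟨hx, by rw [hx, mul_zero, add_zero] at h0i; exact h0i⟩
    obtain ⟨k, l', he⟩ := line_perp_line hF P (g := g) ha (hr i).2.1 (by rw [hgx]; exact hxy'.1) hxy'.2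
    rw [hgx] at he
    by_cases hl0 : l' = 0
    · rw [hl0, zero_smul, add_zero] at he
      have hk : k ≠ 0 := fun e => (hr i).1 (by rw [he, e, zero_smul])
      refine hx0R ?_
      have := rt_smul hF (hr i) (inv_ne_zero hk)
      rwa [he, inv_smul_smul₀ hk] at this
    · have h' := rt_smul hF (hr i) (inv_ne_zero hl0)
      rw [he, smul_add, inv_smul_smul₀ hl0, smul_smul, add_comm ((l'⁻¹ * k) • x0)] at h'
      exact (hz (some (l'⁻¹ * k))).2 h'
  have hdis : (MulAction.orbit H (ptOf hx0)) ⊆ Rᶜ := by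
    rintro L hL ⟨w, hw, hwR, rfl⟩
    refine hx0R (rt_orbit hF H hw hx0 ?_ hwR)
    rw [MulAction.orbit_eq_iff.2 hL]
    exact MulAction.mem_orbit_self _
  have hcount := OmegaMin.orbit_count H (det1 F q (2 + 2)) hH (ptOf hx0)
  rw [show Nat.card (MulAction.orbit (det1 F q (2 + 2)) (ptOf hx0)) = Nat.card (Pt F q (2 + 2)) from
    Nat.card_congr (Equiv.subtypeUnivEquiv fun z => pt_trans hF (by norm_num) _ z), card_pts hF] at hcount
  have horb : Nat.card (MulAction.orbit H (ptOf hx0)) ≤ (q ^ 2 + 1) * q ^ 3 := by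
    have h1 := Set.ncard_le_ncard hdis (Set.toFinite _)
    rw [Set.ncard_compl, card_pts hF] at h1
    rw [Nat.card_coe_set_eq]
    have e : (q ^ 2 + 1) * (q ^ 3 + 1) = (q ^ 2 + 1) * q ^ 3 + (q ^ 2 + 1) := by ring
    omega
  have h3 : 0 < (q ^ 2 + 1) * q ^ 3 := Nat.mul_pos (by omega) (Nat.pow_pos (by omega))
  refine Nat.le_of_mul_le_mul_right ?_ h3
  calc tgt q * ((q ^ 2 + 1) * q ^ 3) = (q ^ 2 + 1) * (q ^ 3 + 1) * ((q + 1) * q ^ 3) := by rw [tgt]; ring
    _ ≤ (q ^ 2 + 1) * (q ^ 3 + 1) * mX H hx0 := Nat.mul_le_mul_left _ hm0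
    _ = n * Nat.card (MulAction.orbit H (ptOf hx0)) := hcount.symm
    _ ≤ _ := Nat.mul_le_mul_left _ horb

end CfsgLib.PsuFour
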