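import Mathlib
import Cfsg.Agent.Lib.PsuFour.Global
import Cfsg.Agent.Lib.PsuMin.Main

/-! The stabiliser of a totally isotropic line. -/

set_option autoImplicit false

namespace CfsgLib.PsuFour

open Matrix CfsgLib.UnitaryTransvection CfsgLib.PsuMin CfsgLib.HermCount Module

variable {F : Type*} [Field F] [Fintype F] {q : ℕ} (hF : Fintype.card F = q ^ 2)

local notation "σ" => frob hF
local notation "h₂" => Cfsg.hermForm 2 F q
local notation "h₄" => Cfsg.hermForm (2 + 2) F q
local notation "G₄" => Cfsg.GU (2 + 2) F q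

theorem inc_smul (k : F) (a : Fin 2 → F) : inc (s := 2) (k • a) = k • inc a :=
  ext2 (by rw [pr_smul, pr_inc, pr_inc]) (by rw [lo_smul, lo_inc, lo_inc, smul_zero])

variable (P : HPair F q)

include hF in
theorem top_inc_li {a : Fin 2 → F} (ha : a ≠ 0) : LinearIndependent F ![(vp P : Fin (2 + 2) → F), inc a] := by
  refine LinearIndependent.pair_iff.2 fun s t e => ?_
  have e1 := congrArg pr e
  have e2 := congrArg lo e
  rw [pr_add, pr_smul, pr_smul, pr_top, pr_inc, smul_zero, zero_add] at e1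
  rw [lo_add, lo_smul, lo_smul, lo_top, lo_inc, smul_zero, add_zero] at e2
  have z1 : pr (0 : Fin (2 + 2) → F) = 0 := rfl
  have z2 : lo (0 : Fin (2 + 2) → F) = 0 := rfl
  rw [z1] at e1
  rw [z2] at e2
  exact ⟨(smul_eq_zero.1 e2).resolve_right (P.ne hF), (smul_eq_zero.1 e1).resolve_right ha⟩

include hF in
/-- Pairs of orthogonal isotropic vectors are conjugate in determinant one up to a scalar. -/
theorem move {a : Fin 2 → F} (ha : a ∈ Isot F q 2) {x y : Fin (2 + 2) → F} (hx : h₄ x x = 0) (hy : h₄ y y = 0)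
    (hxy : h₄ x y = 0) (hli : LinearIndependent F ![x, y]) :
    ∃ g ∈ det1 F q (2 + 2), (∃ r : F, r ≠ 0 ∧ g.1.1 *ᵥ vp P = r • x) ∧ g.1.1 *ᵥ inc a = y := by
  have e1 : h₄ (vp P) (inc a) = 0 := perp_symm hF (by rw [h_vp hF, lo_inc, h_zero_left hF])
  obtain ⟨g, hg⟩ := witt hF (top_inc_li hF P ha.1) hli (fun i j => by
    fin_cases i <;> fin_cases j
    · exact hx.trans (vp_iso hF P).symm
    · exact hxy.trans e1.symm
    · exact (perp_symm hF hxy).trans (perp_symm hF e1).symm
    · exact hy.trans ((h_inc hF a a).trans ha.2).symm)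
  have g0 : g.1.1 *ᵥ vp P = x := hg 0
  have g1 : g.1.1 *ᵥ inc a = y := hg 1
  have hd := det_norm hF g
  obtain ⟨r, hr0, hr⟩ := exists_quot hF (w := (g.1.1.det)⁻¹) (by rw [map_inv₀, ← mul_inv, hd, inv_one])
  refine ⟨g * emb hF P (Units.mk0 r hr0) 1, mem_det1.2 ?_, ⟨r, hr0, ?_⟩, ?_⟩
  · show (g.1.1 * (emb hF P (Units.mk0 r hr0) 1).1.1).det = 1
    rw [det_mul, emb_det, show (1 : Cfsg.GU 2 F q).1.1.det = 1 from det_one, one_mul, Units.val_mk0,
      ← div_eq_mul_inv, show r / σ r = (g.1.1.det)⁻¹ from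
        (div_eq_iff fun e => hr0 (eq_zero_of_frob hF e)).2 hr, mul_inv_cancel₀]
    exact left_ne_zero_of_mul_eq_one hd
  · rw [PsuMin.mul_apply, emb_vp, mulVec_smul, g0, Units.val_mk0]
  · rw [PsuMin.mul_apply, emb, blk_inc, PsuMin.one_apply, g1]

noncomputable instance subAction : MulAction (Cfsg.GU (2 + 2) F q) (Submodule F (Fin (2 + 2) → F)) where
  smul g L := L.map g.1.1.mulVecLin
  one_smul L := by
    show L.map (1 : G₄).1.1.mulVecLin = L
    rw [show (1 : G₄).1.1.mulVecLin = LinearMap.id from LinearMap.ext fun x => PsuMin.one_apply x, Submodule.map_id]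
  mul_smul g g' L := by
    show L.map (g * g').1.1.mulVecLin = (L.map g'.1.1.mulVecLin).map g.1.1.mulVecLin
    rw [← Submodule.map_comp]
    congr 1
    exact LinearMap.ext fun x => PsuMin.mul_apply g g' x

theorem smul_span_pair (g : G₄) (x y : Fin (2 + 2) → F) :
    g • Submodule.span F {x, y} = Submodule.span F {g.1.1 *ᵥ x, g.1.1 *ᵥ y} := by
  show (Submodule.span F {x, y}).map g.1.1.mulVecLin = _
  rw [map_span_pair, Set.image_pair]

theorem span_smul_left {x y : Fin (2 + 2) → F} {r : F} (hr : r ≠ 0) :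
    Submodule.span F ({r • x, y} : Set (Fin (2 + 2) → F)) = Submodule.span F {x, y} := by
  rw [Submodule.span_insert, Submodule.span_insert, Submodule.span_singleton_smul_eq hr.isUnit]

variable (V : IsoPair hF)

/-- The base line. -/
noncomputable def ell : Submodule F (Fin (2 + 2) → F) := Submodule.span F {(vp P : Fin (2 + 2) → F), inc V.a}

theorem va_isot : V.a ∈ Isot F q 2 := ⟨V.ane hF, V.aa⟩

include hF in
theorem vp_perp_inc (a : Fin 2 → F) : h₄ (vp P) (inc a) = 0 := perp_symm hF (by rw [h_vp hF, lo_inc, h_zero_left hF])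

theorem mem_ell {z : Fin (2 + 2) → F} (hz : z ∈ ell hF P V) : h₄ z z = 0 := by
  obtain ⟨a, b, rfl⟩ := Submodule.mem_span_pair.1 hz
  simp only [h_add_left, h_add_right hF, h_smul_left, h_smul_right hF, vp_iso hF P, h_inc hF, V.aa,
    vp_perp_inc hF P, perp_symm hF (vp_perp_inc hF P V.a), mul_zero, add_zero]

theorem ell_perp {z w : Fin (2 + 2) → F} (hz : z ∈ ell hF P V) (hw : w ∈ ell hF P V) : h₄ z w = 0 := by
  obtain ⟨a, b, rfl⟩ := Submodule.mem_span_pair.1 hz
  obtain ⟨c, d, rfl⟩ := Submodule.mem_span_pair.1 hw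
  simp only [h_add_left, h_add_right hF, h_smul_left, h_smul_right hF, vp_iso hF P, h_inc hF, V.aa,
    vp_perp_inc hF P, perp_symm hF (vp_perp_inc hF P V.a), mul_zero, add_zero]

/-- The stabiliser of the line. -/
noncomputable def lineStab : Subgroup G₄ := MulAction.stabilizer G₄ (ell hF P V) ⊓ det1 F q (2 + 2)

theorem orbit_pts (hvp : (vp P : Fin (2 + 2) → F) ∈ Isot F q (2 + 2)) :
    Nat.card (MulAction.orbit (lineStab hF P V) (ptOf hvp)) = q ^ 2 + 1 := by
  classical
  let z : Option F → (Fin (2 + 2) → F) := fun i => i.elim (vp P) fun k => inc V.a + k • vp P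
  have hli := top_inc_li hF P (V.ane hF)
  have hzm : ∀ i, z i ∈ ell hF P V := by
    rintro (_ | k)
    · exact Submodule.subset_span (Set.mem_insert _ _)
    · exact Submodule.mem_span_pair.2 ⟨k, 1, (congrArg (k • vp P + ·) (one_smul F _)).trans (add_comm _ _)⟩
  have hz0 : ∀ i, z i ≠ 0 := by
    rintro (_ | k)
    · exact vp_ne hF P
    · exact fun e => one_ne_zero (α := F) (LinearIndependent.pair_iff.1 hli k 1
        ((congrArg (k • vp P + ·) (one_smul F _)).trans ((add_comm _ _).trans e))).2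
  have hz : ∀ i, z i ∈ Isot F q (2 + 2) := fun i => ⟨hz0 i, mem_ell hF P V (hzm i)⟩
  have hmem : ∀ i, ptOf (hz i) ∈ MulAction.orbit (lineStab hF P V) (ptOf hvp) := by
    intro i
    obtain ⟨w, hw, hli', hspan⟩ : ∃ w, w ∈ ell hF P V ∧ LinearIndependent F ![z i, w] ∧
        Submodule.span F {z i, w} = ell hF P V := by
      rcases i with _ | k
      · exact ⟨inc V.a, Submodule.subset_span (Set.mem_insert_of_mem _ rfl), hli, rfl⟩
      · refine ⟨vp P, Submodule.subset_span (Set.mem_insert _ _), LinearIndependent.pair_iff.2 fun s t e => ?_, ?_⟩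
        · change s • (inc V.a + k • vp P) + t • vp P = 0 at e
          have := LinearIndependent.pair_iff.1 hli (s * k + t) s (by rw [← e]; module)
          refine ⟨this.2, ?_⟩
          simpa [this.2] using this.1
        · refine le_antisymm (Submodule.span_le.2 ?_) (Submodule.span_le.2 ?_)
          · rintro x (rfl | rfl)
            · exact hzm (some k)
            · exact Submodule.subset_span (Set.mem_insert _ _)
          · rintro x (rfl | rfl)
            · exact Submodule.subset_span (Set.mem_insert_of_mem _ rfl)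
            · exact Submodule.mem_span_pair.2 ⟨1, -k, by
                show (1 : F) • (inc V.a + k • vp P) + (-k) • vp P = _
                module⟩
    obtain ⟨g, hg, ⟨r, hr0, hr⟩, hga⟩ := move hF P (va_isot hF V) (hz i).2 (mem_ell hF P V hw)
      (ell_perp hF P V (hzm i) hw) hli'
    refine ⟨⟨g, ?_, hg⟩, ?_⟩
    · show g • ell hF P V = ell hF P V
      conv_rhs => rw [← hspan]
      rw [ell, smul_span_pair, hr, hga, span_smul_left hr0]
    · show g • ptOf hvp = ptOf (hz i)
      rw [smul_ptOf, ptOf_eq]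
      exact ⟨r, hr0, hr⟩
  refine (Nat.card_congr (Equiv.ofBijective
    (fun i => (⟨ptOf (hz i), hmem i⟩ : MulAction.orbit (lineStab hF P V) (ptOf hvp))) ⟨?_, ?_⟩)).symm.trans ?_
  · intro i j e
    obtain ⟨k, hk, e'⟩ := (ptOf_eq (hz i) (hz j)).1 (congrArg Subtype.val e)
    rcases i with _ | a <;> rcases j with _ | b
    · rfl
    · change vp P = k • (inc V.a + b • vp P) at e'
      have := LinearIndependent.pair_iff.1 hli (k * b - 1) k (by
        rw [← sub_eq_zero.2 e'.symm]; module)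
      exact absurd this.2 hk
    · change inc V.a + a • vp P = k • vp P at e'
      have := LinearIndependent.pair_iff.1 hli (a - k) 1 (by
        rw [← sub_eq_zero.2 e']; module)
      exact absurd this.2 one_ne_zero
    · change inc V.a + a • vp P = k • (inc V.a + b • vp P) at e'
      have := LinearIndependent.pair_iff.1 hli (a - k * b) (1 - k) (by
        rw [← sub_eq_zero.2 e']; module)
      have hk1 := this.2
      have hab := this.1
      rw [sub_eq_zero] at hk1 hab
      rw [← hk1, one_mul] at hab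
      exact congrArg some hab
  · rintro ⟨L, ⟨⟨g, hg⟩, rfl⟩⟩
    have hm : g.1.1 *ᵥ vp P ∈ ell hF P V := by
      have e : g • ell hF P V = ell hF P V := hg.1
      rw [← e]
      exact Submodule.mem_map_of_mem (Submodule.subset_span (Set.mem_insert _ _))
    obtain ⟨a, b, e⟩ := Submodule.mem_span_pair.1 hm
    have hgx := gu_isot g hvp
    by_cases hb : b = 0
    · refine ⟨none, Subtype.ext ?_⟩
      show ptOf (hz none) = g • ptOf hvp
      rw [smul_ptOf, ptOf_eq]
      rw [hb, zero_smul, add_zero] at e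
      have ha : a ≠ 0 := fun e0 => hgx.1 (by rw [← e, e0, zero_smul])
      exact ⟨a⁻¹, inv_ne_zero ha, by rw [← e, inv_smul_smul₀ ha]; rfl⟩
    · refine ⟨some (b⁻¹ * a), Subtype.ext ?_⟩
      show ptOf (hz (some _)) = g • ptOf hvp
      rw [smul_ptOf, ptOf_eq]
      refine ⟨b⁻¹, inv_ne_zero hb, ?_⟩
      show inc V.a + (b⁻¹ * a) • vp P = b⁻¹ • _
      rw [← e, smul_add, smul_smul, smul_smul, inv_mul_cancel₀ hb, one_smul]
      exact add_comm _ _
  · rw [Nat.card_eq_fintype_card, Fintype.card_option, hF]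

theorem orbit_lines (hvp : (vp P : Fin (2 + 2) → F) ∈ Isot F q (2 + 2)) :
    (lineStab hF P V).relIndex (MulAction.stabilizer G₄ (ptOf hvp) ⊓ det1 F q (2 + 2)) = q + 1 := by
  classical
  set K := MulAction.stabilizer G₄ (ptOf hvp) ⊓ det1 F q (2 + 2) with hK
  have e0 : (lineStab hF P V).relIndex K = Nat.card (MulAction.orbit K (ell hF P V)) := by
    have h := Subgroup.index_eq_card (MulAction.stabilizer K (ell hF P V))
    rw [← Nat.card_congr (MulAction.orbitEquivQuotientStabilizer K (ell hF P V))] at h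
    rw [← h, Subgroup.relIndex]
    congr 1
    ext g
    exact ⟨fun hg => hg.1, fun hg => ⟨hg, g.2.2⟩⟩
  rw [e0]
  choose rep hrep hrep' using fun L : Pt F q 2 => pt_surj L
  have hmem : ∀ L, Submodule.span F {(vp P : Fin (2 + 2) → F), inc (rep L)} ∈
      MulAction.orbit K (ell hF P V) := by
    intro L
    obtain ⟨g, hg, ⟨r, hr0, hr⟩, hga⟩ := move hF P (va_isot hF V) (vp_iso hF P)
      ((h_inc hF _ _).trans (hrep L).2) (vp_perp_inc hF P _) (top_inc_li hF P (hrep L).1)
    refine ⟨⟨g, ?_, hg⟩, ?_⟩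
    · show g • ptOf hvp = ptOf hvp
      rw [smul_ptOf, ptOf_eq]
      exact ⟨r, hr0, hr⟩
    · show g • ell hF P V = _
      rw [ell, smul_span_pair, hr, hga, span_smul_left hr0]
  refine (Nat.card_congr (Equiv.ofBijective
    (fun L => (⟨_, hmem L⟩ : MulAction.orbit K (ell hF P V))) ⟨?_, ?_⟩)).symm.trans ?_
  · intro L L' e
    have e' : Submodule.span F {(vp P : Fin (2 + 2) → F), inc (rep L)} = Submodule.span F {vp P, inc (rep L')} :=
      congrArg Subtype.val e
    have hm : inc (rep L) ∈ Submodule.span F {(vp P : Fin (2 + 2) → F), inc (rep L')} :=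
      e' ▸ Submodule.subset_span (Set.mem_insert_of_mem _ rfl)
    obtain ⟨a, b, hab⟩ := Submodule.mem_span_pair.1 hm
    have := congrArg pr hab
    rw [pr_add, pr_smul, pr_smul, pr_top, pr_inc, pr_inc, smul_zero, zero_add] at this
    rw [hrep' L, hrep' L', ptOf_eq]
    exact ⟨b, fun e => (hrep L).1 (by rw [← this, e, zero_smul]), this.symm⟩
  · rintro ⟨L, ⟨⟨g, hg⟩, rfl⟩⟩
    have hgl : g ∈ Line (F := F) (q := q) 2 P := by
      obtain ⟨r, -, hr⟩ := (ptOf_eq (gu_isot g hvp) hvp).1 ((smul_ptOf g hvp).symm.trans hg.1)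
      exact ⟨hg.2, r, hr⟩
    have hc := coef_ne hF P hgl
    set a := pr (g.1.1 *ᵥ inc V.a) with ha
    have hai : a ∈ Isot F q 2 := by
      refine ⟨fun e => ?_, by rw [ha, line_h hF P hgl, V.aa]⟩
      have hsp := split3 hF P (g.1.1 *ᵥ inc V.a)
      rw [line_perp hF P hgl (by rw [h_vp hF, lo_inc, h_zero_left hF]), zero_smul, add_zero, ← ha, e] at hsp
      have h2 : inc (s := 2) (0 : Fin 2 → F) = 0 := ext2 (pr_inc _) (lo_inc _)
      rw [h2, add_zero] at hsp
      set t := h₄ (g.1.1 *ᵥ inc V.a) (wp P)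
      have h3 : g.1.1 *ᵥ (h₄ (g.1.1 *ᵥ vp P) (wp P) • inc V.a - t • vp P) = 0 := by
        rw [mulVec_sub, mulVec_smul, mulVec_smul, hsp]
        conv_lhs => arg 2; rw [line_vp hF P hgl]
        module
      have h4 : h₄ (g.1.1 *ᵥ vp P) (wp P) • inc V.a - t • vp P = (0 : Fin (2 + 2) → F) := by
        rw [← inv_apply_apply g (_ - _), h3, mulVec_zero]
      exact hc (LinearIndependent.pair_iff.1 (top_inc_li hF P (V.ane hF)) (-t) _ (by rw [← h4]; module)).2
    obtain ⟨k, hk, hk'⟩ := (ptOf_eq hai (hrep (ptOf hai))).1 (hrep' (ptOf hai))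
    refine ⟨ptOf hai, Subtype.ext ?_⟩
    show _ = g • Submodule.span F {(vp P : Fin (2 + 2) → F), inc V.a}
    rw [smul_span_pair, line_vp hF P hgl, span_smul_left hc]
    have hsp := split3 hF P (g.1.1 *ᵥ inc V.a)
    rw [line_perp hF P hgl (by rw [h_vp hF, lo_inc, h_zero_left hF]), zero_smul, add_zero, ← ha, hk',
      inc_smul] at hsp
    generalize h₄ (g.1.1 *ᵥ inc V.a) (wp P) = t at hsp
    refine le_antisymm (Submodule.span_le.2 ?_) (Submodule.span_le.2 ?_)
    · rintro x (rfl | rfl)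
      · exact Submodule.subset_span (Set.mem_insert _ _)
      · refine Submodule.mem_span_pair.2 ⟨-(k⁻¹ * t), k⁻¹, ?_⟩
        conv_lhs => rw [hsp, smul_add, smul_smul, inv_smul_smul₀ hk]
        module
    · rintro x (rfl | rfl)
      · exact Submodule.subset_span (Set.mem_insert _ _)
      · exact Submodule.mem_span_pair.2 ⟨_, k, hsp.symm⟩
  · have h := card_pt hF (n := 2)
    rw [L0_even hF (by decide : Even 2) (by norm_num)] at h
    have hq := two_le_q hF
    have hq2 : 2 ^ 2 ≤ q ^ 2 := Nat.pow_le_pow_left hq 2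
    refine Nat.eq_of_mul_eq_mul_right (show 0 < q ^ 2 - 1 by omega) (h.trans ?_)
    show (q ^ 2 - 1) * (q ^ 1 + 1) = _
    ring

theorem lineStab_index :
    (lineStab hF P V).relIndex (det1 F q (2 + 2)) = (q + 1) * (q ^ 3 + 1) := by
  classical
  have hvp : (vp P : Fin (2 + 2) → F) ∈ Isot F q (2 + 2) := ⟨vp_ne hF P, vp_iso hF P⟩
  have h := OmegaMin.orbit_count (lineStab hF P V) (det1 F q (2 + 2)) inf_le_right (ptOf hvp)
  rw [orbit_pts hF P V hvp, orbit_lines hF P V hvp, Nat.card_congr (Equiv.subtypeUnivEquiv fun z =>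
    pt_trans hF (by norm_num) _ z)] at h
  have hN : Nat.card (Pt F q (2 + 2)) = (q ^ 2 + 1) * (q ^ 3 + 1) := card_pts hF
  rw [hN] at h
  refine Nat.eq_of_mul_eq_mul_right (show 0 < q ^ 2 + 1 by omega) (h.trans ?_)
  ring

end CfsgLib.PsuFour
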