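import Mathlib
import Cfsg.Agent.Lib.PsuFour.Exist
import Cfsg.Agent.Lib.U42.Main
import Cfsg.Agent.Lib.SpMin.Odd

/-! The least index of a proper subgroup of the four-dimensional unitary groups. -/

set_option autoImplicit false

namespace CfsgLib.PsuFour

open Matrix CfsgLib.UnitaryTransvection CfsgLib.PsuMin CfsgLib.HermCount Module

variable {F : Type*} [Field F] [Fintype F] {q : ℕ} (hF : Fintype.card F = q ^ 2)

include hF in
theorem index_two (hq : q = 2) (H : Subgroup (Cfsg.PSU (2 + 2) F q)) (hH : H ≠ ⊤) : 27 ≤ H.index := by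
  subst hq
  haveI : Fact (Nat.Prime 3) := ⟨Nat.prime_three⟩
  have hK : Fintype.card (ZMod 3) = 3 := ZMod.card 3
  obtain ⟨e⟩ := U42.main (K := ZMod 3) hK (show Fintype.card F = 4 by rw [hF]; rfl)
  set H' := (H.map e.toMonoidHom).comap (QuotientGroup.mk' (Subgroup.center (Matrix.symplecticGroup (Fin 2) (ZMod 3))))
  have hidx : H'.index = H.index := by
    rw [Subgroup.index_comap_of_surjective _ (QuotientGroup.mk'_surjective _)]
    exact Subgroup.index_map_equiv H e
  have h := SpMin.odd_bound (F := ZMod 3) (fun e2 : (2 : ZMod 3) = 0 => absurd (congrArg ZMod.val e2) (by rw [ZMod.val_zero]; exact Nat.succ_ne_zero 1)) (by rw [hK]) 2 le_rfl H' (fun e0 => hH (Subgroup.index_eq_one.1 (by rw [← hidx, e0, Subgroup.index_top])))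
  rw [hidx, hK, SpMin.oddBd, if_pos ⟨rfl, rfl⟩] at h
  exact h

include hF in
/-- The bound in the projective group. -/
theorem index_ge (H : Subgroup (Cfsg.PSU (2 + 2) F q)) (hH : H ≠ ⊤) : tgt q ≤ H.index := by
  by_cases hq : 3 ≤ q
  swap
  · obtain rfl : q = 2 := by have := two_le_q hF; omega
    exact (index_two hF rfl H hH).trans_eq' rfl
  set K := H.comap (QuotientGroup.mk' (Subgroup.center (Cfsg.SU (2 + 2) F q)))
  have hidx : K.index = H.index := Subgroup.index_comap_of_surjective _ (QuotientGroup.mk'_surjective _)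
  set L := K.map (incl (n := 2 + 2) hF)
  have hL : L ≤ det1 F q (2 + 2) := by
    rw [← incl_range hF]
    exact Subgroup.map_le_range _ _
  have hrel : L.relIndex (det1 F q (2 + 2)) = H.index := by
    rw [← incl_range hF, MonoidHom.range_eq_map, Subgroup.relIndex_map_map_of_injective _ _ (incl_injective hF),
      Subgroup.relIndex_top_right, hidx]
  rw [← hrel]
  exact bound_three hF L hq hL fun e => hH (Subgroup.index_eq_one.1 (by rw [← hrel, Subgroup.relIndex_eq_one.2 e]))

include hF in
/-- A subgroup of that index. -/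
theorem index_eq : ∃ H : Subgroup (Cfsg.PSU (2 + 2) F q), H.index = tgt q := by
  obtain ⟨P⟩ := exists_hpair hF
  obtain ⟨e, he0, he⟩ := UnitarySimple.exists_isotropic hF (n := 2) le_rfl
  obtain ⟨V, -⟩ := exists_isoPair hF he0 he
  set S := (lineStab hF P V).comap (incl (n := 2 + 2) hF)
  refine ⟨S.map (QuotientGroup.mk' _), ?_⟩
  have hcen : Subgroup.center (Cfsg.SU (2 + 2) F q) ≤ S := fun g hg => by
    obtain ⟨c, hc⟩ := center_scalar hF (by norm_num) g hg
    have hc' : ∀ v, (incl hF g).1.1 *ᵥ v = c • v := hc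
    have hc0 : c ≠ 0 := fun e0 => mulVec_ne_zero (incl hF g) (vp_ne hF P) (by rw [hc', e0, zero_smul])
    refine ⟨?_, by rw [← incl_range hF]; exact ⟨g, rfl⟩⟩
    show incl hF g • Submodule.span F {(vp P : Fin (2 + 2) → F), inc V.a} = Submodule.span F {vp P, inc V.a}
    rw [smul_span_pair, hc', hc', span_smul_left hc0, Set.pair_comm, span_smul_left hc0, Set.pair_comm]
  rw [Subgroup.index_map_eq S (QuotientGroup.mk'_surjective _) (by rw [QuotientGroup.ker_mk']; exact hcen)]
  have h := lineStab_index hF P V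
  rw [← incl_range hF] at h
  rw [Subgroup.index_comap, h]

end CfsgLib.PsuFour
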